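import Groth.Agent.Grpsch.CubeClosed
import Groth.Agent.Grpsch.CubePush
import Groth.Agent.PerfB.FreeRank
import Groth.Agent.PerfB.FlatPull
import Groth.Agent.Ega2.QCohLocal
import Groth.Agent.S1431
import Groth.Agent.S0034
import Mathlib.LinearAlgebra.Dimension.Constructions

/-!
# The see-saw principle over a reduced base; descent of triviality along field extensions

* `exists_pull`: `f : P ⟶ S` flat, proper, of finite presentation with geometrically integral fibres, `S` reduced; a class
  on `P` which is trivial on the fibres over a dense set of points of `S` is pulled back from `S`.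
* `eq_one_of_field_ext`: a class on a proper geometrically integral scheme over a field which becomes trivial over a field
  extension is trivial.
-/

set_option autoImplicit false
universe u

open CategoryTheory Limits AlgebraicGeometry TopologicalSpace
open Groth.Agent Groth.Agent.Grpsch.PicGrp Groth.Agent.Fdesc.LocGen

namespace K521.SeesawRed

lemma pull_free {Z T : Scheme.{u}} (a : Z ⟶ T) (U : T.Opens) (ha : Set.range a ⊆ (U : Set T))
    {N : T.Modules} {n : ℕ} (e : N.restrict U.ι ≅ FlatMod.freeMod U n) :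
    Nonempty ((Scheme.Modules.pullback a).obj N ≅ FlatMod.freeMod Z n) := by
  let l : Z ⟶ U := IsOpenImmersion.lift U.ι a (by simpa using ha)
  have hl : l ≫ U.ι = a := IsOpenImmersion.lift_fac _ _ _
  exact ⟨(Scheme.Modules.pullbackCongr hl.symm).app N ≪≫ (Scheme.Modules.pullbackComp l U.ι).symm.app N ≪≫
    (Scheme.Modules.pullback l).mapIso (((Scheme.Modules.restrictFunctorIsoPullback U.ι).symm.app N) ≪≫ e) ≪≫
    PerfB.FlatPull.pullbackFreeMod l n⟩

/-- A finite locally free module on `T` whose pullback along a surjective morphism is invertible is invertible. -/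
lemma isInvertible_of_pullback {P T : Scheme.{u}} (π : P ⟶ T) [Surjective π] {N : T.Modules}
    (hN : FlatMod.IsFinLocFree N) (h : PicF.IsInvertible ((Scheme.Modules.pullback π).obj N)) :
    PicF.IsInvertible N := by
  rw [← Ega2.QCohLocal.isFinLocFreeOfRank_one_iff]
  intro t
  obtain ⟨U, n, ht, ⟨e⟩⟩ := hN t
  refine ⟨U, ht, ?_⟩
  obtain ⟨x, rfl⟩ := Surjective.surj (f := π) t
  obtain ⟨W, hxW, ⟨e'⟩⟩ := Ega2.QCohLocal.isFinLocFreeOfRank_one_iff.2 h x
  have hn : n = 1 := by
    let V : P.Opens := W ⊓ π ⁻¹ᵁ U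
    have hx : x ∈ V := ⟨hxW, ht⟩
    obtain ⟨e₁⟩ := pull_free (V.ι ≫ π) U (by
      rintro _ ⟨v, rfl⟩
      rw [Scheme.Hom.comp_apply]
      exact v.2.2) e
    obtain ⟨e₂⟩ := pull_free V.ι W (by
      rintro _ ⟨v, rfl⟩
      exact v.2.1) e'
    exact PerfB.FreeRank.rank_eq (⟨x, hx⟩ : V)
      (e₁.symm ≪≫ (Scheme.Modules.pullbackComp V.ι π).symm.app N ≪≫ e₂)
  subst hn
  exact ⟨e⟩

lemma isInvertible_of_iso {Y : Scheme.{u}} {L M : Y.Modules} (e : L ≅ M) (hL : PicF.IsInvertible L) :
    PicF.IsInvertible M := by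
  intro x
  obtain ⟨U, hx, ⟨i⟩⟩ := hL x
  exact ⟨U, hx, ⟨(Scheme.Modules.restrictFunctor U.ι).mapIso e.symm ≪≫ i⟩⟩

/-- **See-saw over a reduced base.** -/
theorem exists_pull {P S : Scheme.{u}} (f : P ⟶ S) [Flat f] [IsProper f] [LocallyOfFinitePresentation f]
    [GeometricallyIntegral f] [IsReduced S] (c : Pic P) (W : Set S) (hW : Dense W)
    (h : ∀ s ∈ W, pull (f.fiberι s) c = 1) : ∃ d : Pic S, pull f d = c := by
  obtain ⟨L, hL, rfl⟩ := exists_mk c
  have hclosed := Grpsch.CubeClosed.isClosed_trivialLocus f L hL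
  have hall : ∀ z : S, Nonempty ((Scheme.Modules.pullback (f.fiberι z)).obj L ≅
      Coh.structureModule (f.fiber z)) := by
    have h1 : closure W ⊆ {z : S | Nonempty ((Scheme.Modules.pullback (f.fiberι z)).obj L ≅
      Coh.structureModule (f.fiber z))} := by
      refine closure_minimal (fun s hs => ?_) hclosed
      have := h s hs
      rwa [pull_mk, mk_eq_one_iff] at this
    rw [hW.closure_eq] at h1
    exact fun z => h1 trivial
  obtain ⟨Z, j, hj1, hj2, hj⟩ := S1431.result f
    (fun T g U => Grpsch.CubeData.isIso_app (pullback.snd f g) U) L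
    (Grpsch.CubeClosed.isFinLocFree_of_isInvertible hL)
  have hsurj : Surjective j := by
    constructor
    intro z
    obtain ⟨e⟩ := hall z
    obtain ⟨g', hg'⟩ := (hj _ (S.fromSpecResidueField z)).2 ⟨Coh.structureModule _,
      Grpsch.CubeClosed.isFinLocFree_of_isInvertible isInvertible_structureModule, by
        obtain ⟨i⟩ : Grpsch.CubeData.Triv ((Scheme.Modules.pullback
          (pullback.snd f (S.fromSpecResidueField z))).obj (Coh.structureModule _)) :=
          Grpsch.CubeData.Triv.pullback _ ⟨Iso.refl _⟩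
        exact ⟨i ≪≫ e.symm⟩⟩
    obtain ⟨pt⟩ : Nonempty (Spec (S.residueField z)) := inferInstance
    refine ⟨g' pt, ?_⟩
    rw [← Scheme.Hom.comp_apply, hg', Scheme.fromSpecResidueField_apply]
  have hcl : IsClosedImmersion j := by
    refine IsClosedImmersion.of_isPreimmersion j ?_
    rw [hsurj.1.range_eq]
    exact isClosed_univ
  have hiso : IsIso j := isIso_of_isClosedImmersion_of_surjective j
  obtain ⟨N, hN, ⟨e⟩⟩ := (hj S (𝟙 S)).1 ⟨inv j, IsIso.inv_hom_id j⟩
  -- transport to `P`
  let a : P ⟶ pullback f (𝟙 S) := pullback.lift (𝟙 P) f (by simp)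
  have ha1 : a ≫ pullback.fst f (𝟙 S) = 𝟙 P := pullback.lift_fst _ _ _
  have ha2 : a ≫ pullback.snd f (𝟙 S) = f := pullback.lift_snd _ _ _
  have e' : (Scheme.Modules.pullback f).obj N ≅ L :=
    (Scheme.Modules.pullbackCongr ha2.symm).app N ≪≫ (Scheme.Modules.pullbackComp a _).symm.app N ≪≫
      (Scheme.Modules.pullback a).mapIso e ≪≫ (Scheme.Modules.pullbackComp a _).app L ≪≫
      (Scheme.Modules.pullbackCongr ha1).app L ≪≫ (Scheme.Modules.pullbackId P).app L
  have hfs : Surjective f := inferInstance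
  have hNi : PicF.IsInvertible N := isInvertible_of_pullback f hN (isInvertible_of_iso e'.symm hL)
  exact ⟨mk N hNi, by rw [pull_mk, mk_eq_iff]; exact ⟨e'⟩⟩

/-- **Triviality of a class descends along field extensions**, for proper geometrically integral schemes. -/
theorem eq_one_of_field_ext (k : Type u) [Field k] (X : Scheme.{u}) (p : X ⟶ Spec (CommRingCat.of k)) [IsProper p]
    [GeometricallyIntegral p] (k' : Type u) [Field k'] [Algebra k k'] (X' : Scheme.{u}) (g : X' ⟶ X)
    (q : X' ⟶ Spec (CommRingCat.of k'))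
    (hpb : IsPullback g q p (Spec.map (CommRingCat.ofHom (algebraMap k k')))) (c : Pic X) (hc : pull g c = 1) :
    c = 1 := by
  obtain ⟨L, hL, rfl⟩ := exists_mk c
  have hM : PicF.IsInvertible (dual L) := isInvertible_dual hL
  have hprod : mk L hL * mk (dual L) hM = 1 := by rw [← inv_mk hL, mul_inv_cancel]
  let _ : X.Over (Spec (CommRingCat.of k)) := ⟨p⟩
  let _ : X'.Over (Spec (CommRingCat.of k')) := ⟨q⟩
  have hp : IsProper (X ↘ Spec (CommRingCat.of k)) := ‹IsProper p›
  have hpb' : IsPullback g (X' ↘ Spec (CommRingCat.of k')) (X ↘ Spec (CommRingCat.of k))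
      (Spec.map (CommRingCat.ofHom (algebraMap k k'))) := hpb
  have hX : IsIntegral X :=
    GeometricallyIntegral.geometrically_isIntegral (f := p) (𝟙 (Spec (CommRingCat.of k))) (𝟙 X) p
      (IsPullback.of_horiz_isIso ⟨by simp⟩)
  have hX' : IsIntegral X' := by
    have h1 : IsIntegral (pullback p (Spec.map (CommRingCat.ofHom (algebraMap k k')))) := inferInstance
    have : Nonempty X' := ⟨hpb.isoPullback.inv (Nonempty.some inferInstance)⟩
    exact isIntegral_of_isOpenImmersion hpb.isoPullback.hom
  have hp' : IsProper (X' ↘ Spec (CommRingCat.of k')) :=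
    MorphismProperty.of_isPullback (P := @IsProper) hpb ‹IsProper p›
  have hcs : CompactSpace X :=
    (quasiCompact_iff_compactSpace (f := X ↘ Spec (CommRingCat.of k))).mp inferInstance
  have hqs : QuasiSeparatedSpace X :=
    (quasiSeparated_iff_quasiSeparatedSpace (f := X ↘ Spec (CommRingCat.of k))).mp inferInstance
  have key : ∀ (N : X.Modules) (hN : PicF.IsInvertible N), pull g (mk N hN) = 1 →
      0 < Module.finrank k (Coh.HH X N 0) := by
    intro N hN h1
    rw [pull_mk, mk_eq_one_iff] at h1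
    obtain ⟨e⟩ := h1
    have h2 := Grpsch.CubeClosed.finrank_pos (K := k') e
    have hq := Ega2.QCohLocal.isQCoh_of_isInvertible hN
    obtain ⟨e2⟩ := Groth.Agent.S0034.result k k' X X' g hpb' N 0
    rw [← e2.finrank_eq, Module.finrank_baseChange] at h2
    exact h2
  have h1 := key L hL hc
  have h2 := key (dual L) hM (by
    rw [← inv_mk hL, map_inv, hc, inv_one])
  obtain ⟨s, hs⟩ := Grpsch.CubeClosed.exists_ne_zero (K := k) h1
  obtain ⟨t, ht⟩ := Grpsch.CubeClosed.exists_ne_zero (K := k) h2
  have hF : IsField Γ(X, ⊤) := isField_of_universallyClosed k p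
  exact Grpsch.CubeClosed.eq_one_of_sections hF hL hM hprod s hs t ht

end K521.SeesawRed
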