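import Groth.Prelude.Def_AbDual
import Mathlib.CategoryTheory.Monoidal.Cartesian.Over
import Mathlib.CategoryTheory.Monoidal.Cartesian.Grp

/-!
# Tate modules and base change

* `tateCongr e`: an isomorphism of groups of points `(T ⟶ A) ≃* (T' ⟶ B)` gives a `ℤ_l`-linear isomorphism of Tate
  modules;
* `ptsEquiv f A`: for `f : S' ⟶ S` and a group scheme `A` over `S`, `(Over.mk f ⟶ A) ≃* (Over.mk (𝟙 S') ⟶ f^* A)`;
* `tateBc f A l`: `T_l` of the `S'`-points of `A` is `T_l` of the points of `f^* A`, compatibly with homomorphisms.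
-/

set_option autoImplicit false
universe u

open CategoryTheory Limits MonoidalCategory CartesianMonoidalCategory AlgebraicGeometry
open scoped MonObj

namespace K521.BcTate

section congr

variable {S S' : Scheme.{u}} {A : Over S} [GrpObj A] [IsCommMonObj A] {B : Over S'} [GrpObj B] [IsCommMonObj B]
  {T : Over S} {T' : Over S'} (l : ℕ) [Fact l.Prime]

omit [IsCommMonObj A] [IsCommMonObj B] in
theorem map_nsmul' (e : (T ⟶ A) →* (T' ⟶ B)) (n : ℕ) (x : Additive (T ⟶ A)) :
    Additive.ofMul (e (n • x).toMul) = n • Additive.ofMul (e x.toMul) := by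
  apply Additive.toMul.injective
  change e ((x.toMul) ^ n) = (e x.toMul) ^ n
  rw [map_pow]

/-- functoriality of the Tate module in the group of points -/
noncomputable def tateHom (e : (T ⟶ A) →* (T' ⟶ B)) : AbDual.TateMod A l T →ₗ[ℤ_[l]] AbDual.TateMod B l T' where
  toFun x := ⟨fun n => Additive.ofMul (e ((x : ℕ → Additive (T ⟶ A)) n).toMul),
    ⟨fun n => by rw [← map_nsmul', x.torsion n]; exact congrArg Additive.ofMul (map_one e),
     fun n => by rw [← map_nsmul', x.compat n]⟩⟩
  map_add' x y := AbDual.TateMod.ext fun n => congrArg Additive.ofMul (map_mul e _ _)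
  map_smul' a x := AbDual.TateMod.ext fun n => by
    change Additive.ofMul (e ((a.appr n) • (x : ℕ → Additive (T ⟶ A)) n).toMul) = _
    rw [map_nsmul']
    rfl

/-- an isomorphism of groups of points gives an isomorphism of Tate modules -/
noncomputable def tateCongr (e : (T ⟶ A) ≃* (T' ⟶ B)) : AbDual.TateMod A l T ≃ₗ[ℤ_[l]] AbDual.TateMod B l T' :=
  LinearEquiv.ofLinearMap (tateHom l e.toMonoidHom) (tateHom l e.symm.toMonoidHom)
    (LinearMap.ext fun _ => AbDual.TateMod.ext fun _ => congrArg Additive.ofMul (e.apply_symm_apply _))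
    (LinearMap.ext fun _ => AbDual.TateMod.ext fun _ => congrArg Additive.ofMul (e.symm_apply_apply _))

end congr

section bc

variable {S S' : Scheme.{u}} (f : S' ⟶ S)

variable (A : Over S)

/-- points of the base change -/
noncomputable def toPt (x : Over.mk f ⟶ A) : Over.mk (𝟙 S') ⟶ (Over.pullback f).obj A :=
  Over.homMk (pullback.lift x.left (𝟙 S') ((Over.w x).trans (Category.id_comp f).symm)) (pullback.lift_snd _ _ _)

theorem toPt_left_fst (x : Over.mk f ⟶ A) : (toPt f A x).left ≫ pullback.fst A.hom f = x.left :=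
  pullback.lift_fst _ _ _

theorem toPt_left_snd (x : Over.mk f ⟶ A) : (toPt f A x).left ≫ pullback.snd A.hom f = 𝟙 S' :=
  pullback.lift_snd _ _ _

theorem toPt_comp {B : Over S} (x : Over.mk f ⟶ A) (g : A ⟶ B) :
    toPt f B (x ≫ g) = toPt f A x ≫ (Over.pullback f).map g := by
  ext1
  have h1 : ((Over.pullback f).map g).left ≫ pullback.fst B.hom f = pullback.fst A.hom f ≫ g.left :=
    pullback.lift_fst _ _ _
  have h2 : ((Over.pullback f).map g).left ≫ pullback.snd B.hom f = pullback.snd A.hom f := pullback.lift_snd _ _ _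
  refine pullback.hom_ext ?_ ?_
  · refine (toPt_left_fst f B (x ≫ g)).trans ?_
    change x.left ≫ g.left = ((toPt f A x).left ≫ ((Over.pullback f).map g).left) ≫ pullback.fst B.hom f
    refine Eq.trans ?_ (Category.assoc _ _ _).symm
    refine Eq.trans ?_ (congrArg (fun z => (toPt f A x).left ≫ z) h1).symm
    refine Eq.trans ?_ (Category.assoc _ _ _)
    exact congrArg (fun z => z ≫ g.left) (toPt_left_fst f A x).symm
  · refine (toPt_left_snd f B (x ≫ g)).trans ?_
    change 𝟙 S' = ((toPt f A x).left ≫ ((Over.pullback f).map g).left) ≫ pullback.snd B.hom f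
    refine Eq.trans ?_ (Category.assoc _ _ _).symm
    refine Eq.trans ?_ (congrArg (fun z => (toPt f A x).left ≫ z) h2).symm
    exact (toPt_left_snd f A x).symm

theorem toPt_bijective : Function.Bijective (toPt f A) := by
  constructor
  · intro x y h
    ext1
    rw [← toPt_left_fst f A x, h, toPt_left_fst f A y]
  · intro y
    have hy : y.left ≫ pullback.snd A.hom f = 𝟙 S' := Over.w y
    refine ⟨Over.homMk (y.left ≫ pullback.fst A.hom f) ?_, ?_⟩
    · have h2 : (y.left ≫ pullback.snd A.hom f) ≫ f = f := by
        rw [hy]; exact Category.id_comp f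
      refine Eq.trans ?_ h2
      refine (Category.assoc _ _ _).trans ?_
      refine Eq.trans ?_ (Category.assoc _ _ _).symm
      exact congrArg (fun z => y.left ≫ z) pullback.condition
    · ext1
      refine pullback.hom_ext ?_ ?_
      · exact toPt_left_fst f A _
      · exact (toPt_left_snd f A _).trans hy.symm

open scoped Obj

variable [GrpObj A]

theorem toPt_mul (x y : Over.mk f ⟶ A) : toPt f A (x * y) = toPt f A x * toPt f A y := by
  have h : ∀ z : Over.mk f ⟶ A, toPt f A z = toPt f (Over.mk f) (𝟙 _) ≫ (Over.pullback f).map z := by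
    intro z
    rw [← toPt_comp, Category.id_comp]
  rw [h, h x, h y, ← MonObj.comp_mul]
  congr 1
  exact map_mul (Functor.homMonoidHom (Over.pullback f) (X := Over.mk f) (M := A)) x y

/-- points of the base change, as groups -/
noncomputable def ptsEquiv : (Over.mk f ⟶ A) ≃* (Over.mk (𝟙 S') ⟶ (Over.pullback f).obj A) :=
  { Equiv.ofBijective _ (toPt_bijective f A) with
    map_mul' := toPt_mul f A }

theorem ptsEquiv_apply (x : Over.mk f ⟶ A) : ptsEquiv f A x = toPt f A x := rfl

end bc

end K521.BcTate
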