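import Mathlib.AlgebraicGeometry.AlgClosed.Basic
import Mathlib.AlgebraicGeometry.Morphisms.QuasiFinite
import Mathlib.AlgebraicGeometry.Morphisms.Finite
import Mathlib.AlgebraicGeometry.Artinian
import Mathlib.CategoryTheory.Monoidal.Cartesian.Over
import Mathlib.CategoryTheory.Monoidal.Cartesian.CommGrp_
import Mathlib.GroupTheory.Coset.Card

/-!
# Geometric points of finite and of surjective morphisms

* `finite_lifts`: an `Ω`-point has finitely many lifts along a finite morphism;
* `exists_lift`: it has one along a surjective morphism locally of finite type (`Ω` algebraically closed);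
* the same in `Over S`;
* `postMonoidHom`: the homomorphism on points induced by a homomorphism of group objects.
-/

set_option autoImplicit false
universe u

open CategoryTheory Limits AlgebraicGeometry MonoidalCategory CartesianMonoidalCategory MonObj

namespace K521.GeomPts

variable {X Y : Scheme.{u}} (f : X ⟶ Y) {Ω : Type u} [Field Ω] [IsAlgClosed Ω]
  (y : Spec (CommRingCat.of Ω) ⟶ Y)

/-- An `Ω`-point has finitely many lifts along a finite morphism. -/
theorem finite_lifts [IsFinite f] : Finite {x : Spec (CommRingCat.of Ω) ⟶ X // x ≫ f = y} := by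
  have h0 : IsFinite (pullback.snd f y) := inferInstance
  have hart : IsArtinianScheme (Spec (CommRingCat.of Ω)) := inferInstance
  have h1 : IsLocallyArtinian (pullback f y) := IsLocallyArtinian.of_locallyQuasiFinite (pullback.snd f y)
  have h2 : CompactSpace ↥(pullback f y) :=
    (quasiCompact_iff_compactSpace (pullback.snd f y)).1 inferInstance
  have h3 : IsArtinianScheme (pullback f y) := { __ := h1, __ := h2 }
  have h4 : Finite ↥(pullback f y) := inferInstance
  have h5 : Finite (closedPoints ↥(pullback f y)) := inferInstance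
  have h6 : Finite {p : Spec (.of Ω) ⟶ pullback f y // p ≫ pullback.snd f y = 𝟙 _} :=
    Finite.of_equiv _ (pointEquivClosedPoint (pullback.snd f y)).symm
  refine Finite.of_injective (β := {p : Spec (.of Ω) ⟶ pullback f y // p ≫ pullback.snd f y = 𝟙 _})
    (fun x => ⟨pullback.lift x.1 (𝟙 _) (by rw [x.2, Category.id_comp]), pullback.lift_snd _ _ _⟩) ?_
  intro a b hab
  have := congrArg (fun z => z.1 ≫ pullback.fst f y) hab
  simp only [pullback.lift_fst] at this
  exact Subtype.ext this

/-- An `Ω`-point lifts along a surjective morphism locally of finite type. -/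
theorem exists_lift [LocallyOfFiniteType f] [Surjective f] : ∃ x : Spec (CommRingCat.of Ω) ⟶ X, x ≫ f = y := by
  have h1 : Surjective (pullback.snd f y) := inferInstance
  have h2 : LocallyOfFiniteType (pullback.snd f y) := inferInstance
  have h3 : JacobsonSpace ↥(pullback f y) := LocallyOfFiniteType.jacobsonSpace (pullback.snd f y)
  obtain ⟨z, -⟩ := (pullback.snd f y).surjective (IsLocalRing.closedPoint Ω)
  obtain ⟨c, -, hc⟩ := nonempty_inter_closedPoints (X := ↥(pullback f y)) (Z := Set.univ) ⟨z, trivial⟩
    isOpen_univ.isLocallyClosed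
  have hc' : IsClosed {c} := hc
  refine ⟨pointOfClosedPoint (pullback.snd f y) c hc' ≫ pullback.fst f y, ?_⟩
  rw [Category.assoc, pullback.condition, pointOfClosedPoint_comp_assoc]

section Over

variable {S : Scheme.{u}} {A B : Over S} (g : A ⟶ B) (t : Spec (CommRingCat.of Ω) ⟶ S)

theorem finite_lifts_over [IsFinite g.left] (b : Over.mk t ⟶ B) :
    Finite {a : Over.mk t ⟶ A // a ≫ g = b} := by
  have h := finite_lifts (Ω := Ω) g.left b.left
  refine Finite.of_injective (β := {x : Spec (CommRingCat.of Ω) ⟶ A.left // x ≫ g.left = b.left})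
    (fun a => ⟨a.1.left, by rw [← Over.comp_left, a.2]⟩) ?_
  intro a b hab
  exact Subtype.ext (Over.OverMorphism.ext (congrArg Subtype.val hab))

theorem exists_lift_over [LocallyOfFiniteType g.left] [Surjective g.left] (b : Over.mk t ⟶ B) :
    ∃ a : Over.mk t ⟶ A, a ≫ g = b := by
  obtain ⟨x, hx⟩ := exists_lift (Ω := Ω) g.left b.left
  refine ⟨Over.homMk x ?_, Over.OverMorphism.ext hx⟩
  rw [← Over.w g, reassoc_of% hx]
  exact Over.w b

end Over

section Grp

variable {C : Type*} [Category C] [CartesianMonoidalCategory C] {A B : C} [GrpObj A] [GrpObj B]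

/-- Postcomposition with a homomorphism, on `T`-points. -/
def post (g : A ⟶ B) [IsMonHom g] (T : C) : (T ⟶ A) →* (T ⟶ B) where
  toFun x := x ≫ g
  map_one' := MonObj.one_comp g
  map_mul' x y := MonObj.mul_comp x y g

@[simp] theorem post_apply (g : A ⟶ B) [IsMonHom g] (T : C) (x : T ⟶ A) : post g T x = x ≫ g := rfl

end Grp

end K521.GeomPts
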