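import Groth.Agent.Krr.H463.SpecField
import Groth.Agent.Krr.H463.EulerX
import Groth.Agent.Fga.PicMon
import Groth.Agent.Sga67.LocBasisOps
import Groth.Agent.S3233
import Groth.Agent.S3744
import Groth.Agent.Books.Lambda2
import Groth.Agent.Fdesc.LocGen
import Groth.Agent.VarietyB.ExactLoc

/-!
# The Euler characteristic on a model of `K(X)`, intersection numbers and nilpotency of `1 - [M]`
-/

set_option autoImplicit false
universe v u

open CategoryTheory CategoryTheory.Limits AlgebraicGeometry

namespace Groth.Agent.AbVar.K521.KDeg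

open Groth.Agent.Krr.H463

variable (k : Type u) [Field k] {X : Scheme.{u}}
  [X.Over (Spec (CommRingCat.of k))]
  [IsProper (X ↘ Spec (CommRingCat.of k))]
  {KX : Type v} [CommRing KX] [LambdaRing.LambdaOps KX] {PX : LambdaRing.PosStructure KX}
  {φX : SGA6.Kvb X →+ KX} (hKX : KRR.IsModel X KX PX φX)

/-- The Euler characteristic on a model. -/
noncomputable def chiK : KX →+ ℤ :=
  (ChiHom.chi k X).comp (AddEquiv.ofBijective φX hKX.bijective).symm.toAddMonoidHom

theorem chiK_phi (x : SGA6.Kvb X) : chiK k hKX (φX x) = ChiHom.chi k X x := by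
  change ChiHom.chi k X ((AddEquiv.ofBijective φX hKX.bijective).symm (φX x)) = _
  congr 1
  exact (AddEquiv.ofBijective φX hKX.bijective).symm_apply_apply x

theorem chiK_cl {E : X.Modules} (hE : FlatMod.IsFinLocFree E) :
    chiK k hKX (φX (KRR.cl X E)) = Curv2.euler k X E := by
  rw [chiK_phi, ChiHom.chi_cl k X hE]

theorem intNum_eq [IsNoetherian X] (d : ℕ) (hd : topologicalKrullDim ↥X ≤ (d : WithBot ℕ∞)) {M : X.Modules}
    (hM : FlatMod.IsFinLocFree M) (r : ℕ) : ∀ {F : X.Modules}, FlatMod.IsFinLocFree F →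
    FGA.intNum k X d (fun _ : Fin r => M) F =
      chiK k hKX ((1 - φX (KRR.cl X M)) ^ r * φX (KRR.cl X F)) := by
  induction r with
  | zero =>
    intro F hF
    rw [Fga.PicMon.intNum_zero, pow_zero, one_mul, chiK_cl k hKX hF, EulerX.euler_eq_sum k d hd F]
    rfl
  | succ r ih =>
    intro F hF
    have h1 : (fun _ : Fin (r + 1) => M) = (Fin.cons M (fun _ : Fin r => M) : Fin (r + 1) → X.Modules) := by
      funext i
      cases i using Fin.cases <;> rfl
    have hMF : FlatMod.IsFinLocFree (CohB1.tensorMod M F) := Sga67.LocBasis.isFinLocFree_tensorMod hM hF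
    rw [h1, Fga.PicMon.intNum_cons, ih hF, ih hMF, ← map_sub]
    congr 1
    have h2 : φX (KRR.cl X (CohB1.tensorMod M F)) = φX (KRR.cl X M) * φX (KRR.cl X F) :=
      (hKX.map_mul M F hM hF).symm
    rw [h2]
    ring

/-- The support of `O_X`. -/
theorem mem_support_unit {X : Scheme.{u}} (x : X) : x ∈ CohB1.support (Coh.structureModule X) := by
  intro hsub
  have h1 : (Coh.structureModule X).presheaf.germ ⊤ x (TopologicalSpace.Opens.mem_top _)
      (Groth.Agent.Fdesc.LocGen.one ⊤) = 0 := Subsingleton.elim _ _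
  obtain ⟨V, hVU, hxV, hV⟩ := VarietyB.ExactLoc.exists_res_eq_zero (Coh.structureModule X)
    (TopologicalSpace.Opens.mem_top _) _ h1
  have h2 : Groth.Agent.Fdesc.LocGen.one (X := X) V = 0 := by
    rw [← Groth.Agent.Fdesc.LocGen.res_one hVU]
    exact hV
  have h5 : (1 : Γ(X, V)) = 0 := by
    apply (Groth.Agent.Fdesc.LocGen.isGen_one V).ext
    rw [h2, smul_zero, smul_zero]
  have : Nonempty V := ⟨⟨x, hxV⟩⟩
  exact one_ne_zero h5

theorem support_unit (X : Scheme.{u}) : CohB1.support (Coh.structureModule X) = Set.univ :=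
  Set.eq_univ_of_forall mem_support_unit

/-- The degree is positive. -/
theorem deg_pos [IsNoetherian X] (g : ℕ) (hg : topologicalKrullDim ↥X = g) {L M : X.Modules} (hL : CohB1.IsAmple L)
    (hM : FlatMod.IsFinLocFree M) (hLM : Nonempty (CohB1.tensorMod L M ≅ Coh.structureModule X)) :
    0 < chiK k hKX ((1 - φX (KRR.cl X M)) ^ g) := by
  have h1 : topologicalKrullDim (CohB1.support (Coh.structureModule X)) = g := by
    rw [support_unit, ← hg]
    exact IsHomeomorph.topologicalKrullDim_eq _ (Homeomorph.Set.univ X).isHomeomorph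
  have h2 := S3233.result k X g hg.le (fun _ : Fin g => L) (fun _ : Fin g => M) (fun _ => hL) (fun _ => hLM)
    (Coh.structureModule X) (PerfA.CohSerre.isCoh_of_isFinLocFree Sga67.TensorOps.isFinLocFree_structureModule) h1
  rw [intNum_eq k hKX g hg.le hM g Sga67.TensorOps.isFinLocFree_structureModule, hKX.map_one, mul_one] at h2
  exact h2

omit [X.Over (Spec (CommRingCat.of k))] [IsProper (X ↘ Spec (CommRingCat.of k))] in
include hKX in
/-- `1 - u` is nilpotent. -/
theorem pow_eq_zero [IsNoetherian X] [ConnectedSpace X] {L : X.Modules} (hL : CohB1.IsAmple L) (g : ℕ)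
    (hg : topologicalKrullDim ↥X ≤ (g : WithBot ℕ∞)) {u : KX} (hu : PX.IsLine u) : (1 - u) ^ (g + 1) = 0 := by
  have h1 := S3744.result X L hL g hg KX PX φX hKX
  have h2 : (1 - u) ∈ LambdaRing.gammaFiltration PX 1 := by
    have h3 : PX.aug (1 - u) = 0 := by rw [map_sub, map_one, hu.2, sub_self]
    have h4 := Groth.Agent.Books.Lambda2.gamma_mem_filtration PX h3 1
    rwa [Groth.Agent.Books.Lambda2.gamma_one] at h4
  have h5 : ∀ m : ℕ, (1 - u) ^ m ∈ LambdaRing.gammaFiltration PX m := by
    intro m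
    induction m with
    | zero => exact Groth.Agent.Books.Lambda2.mem_filtration_zero PX _
    | succ m ih =>
      rw [pow_succ]
      exact Groth.Agent.Books.Lambda2.mul_mem_filtration PX m 1 _ _ ih h2
  have h6 := h5 (g + 1)
  rw [h1, AddSubgroup.mem_bot] at h6
  exact h6

end Groth.Agent.AbVar.K521.KDeg
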