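import Groth.Agent.Books.Lambda1
import Groth.Prelude.Def_KRR

/-!
# A binomial identity for the `λ`-operations

If `e + (g + 1) = (n + 1) u` in a `λ`-ring, `u` a line element with `(1 - u)^(g + 1) = 0`, and `λ^i e = 0` for
`i > r`, where `r + g = n` and `r ≤ g`, then `C(n + 1, g) (1 - u)^g` is `0` when `r < g` and `λ_{-1}(e)` when `r = g`.
-/

set_option autoImplicit false
universe u v w

open LambdaRing Finset

namespace Groth.Agent.AbVar.K521.KLam

open Groth.Agent.Books.Lambda1

variable {K : Type u} [CommRing K] [LambdaOps K] (P : PosStructure K)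

/-- The polynomial `Σ_{i ≤ r} λ^i(e) X^i`. -/
noncomputable def Q (r : ℕ) (e : K) : Polynomial K :=
  ∑ i ∈ range (r + 1), Polynomial.C (LambdaOps.lam i e) * Polynomial.X ^ i

theorem coe_Q (r : ℕ) (e : K) (he : ∀ i, r < i → LambdaOps.lam i e = 0) :
    ((Q r e : Polynomial K) : PowerSeries K) = lamSeries e := by
  ext i
  rw [Polynomial.coeff_coe, coeff_lamSeries, Q, Polynomial.finsetSum_coeff]
  simp only [Polynomial.coeff_C_mul, Polynomial.coeff_X_pow]
  by_cases hi : i ≤ r
  · rw [Finset.sum_eq_single i]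
    · simp
    · intro b _ hb
      rw [if_neg (Ne.symm hb), mul_zero]
    · intro h
      exact absurd (Finset.mem_range.mpr (by omega)) h
  · rw [he i (by omega)]
    refine Finset.sum_eq_zero fun b hb => ?_
    rw [if_neg, mul_zero]
    have := Finset.mem_range.mp hb
    omega

include P in
theorem lamSeries_natCast (m : ℕ) : lamSeries (m : K) = (1 + PowerSeries.X) ^ m := by
  induction m with
  | zero => rw [Nat.cast_zero, lamSeries_zero, pow_zero]
  | succ m ih =>
    rw [Nat.cast_succ, lamSeries_add, ih, lamSeries_line P 1 (isLine_one P), pow_succ]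
    simp

theorem lamSeries_natCast_mul (m : ℕ) (x : K) : lamSeries ((m : K) * x) = lamSeries x ^ m := by
  induction m with
  | zero => rw [Nat.cast_zero, zero_mul, lamSeries_zero, pow_zero]
  | succ m ih => rw [Nat.cast_succ, add_mul, one_mul, lamSeries_add, ih, pow_succ]

/-- The polynomial identity. -/
theorem poly_eq {n g r : ℕ} {u e : K} (hu : P.IsLine u)
    (he : e + ((g + 1 : ℕ) : K) = ((n + 1 : ℕ) : K) * u) (hr : ∀ i, r < i → LambdaOps.lam i e = 0) :
    Q r e * (1 + Polynomial.X) ^ (g + 1) = (1 + Polynomial.C u * Polynomial.X) ^ (n + 1) := by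
  apply Polynomial.coe_injective
  have h := congrArg lamSeries he
  rw [lamSeries_add, lamSeries_natCast P, lamSeries_natCast_mul, lamSeries_line P u hu, ← coe_Q r e hr] at h
  rw [Polynomial.coe_mul, Polynomial.coe_pow, Polynomial.coe_pow, Polynomial.coe_add, Polynomial.coe_add,
    Polynomial.coe_mul, Polynomial.coe_one, Polynomial.coe_X, Polynomial.coe_C]
  exact h

theorem cancel {n g r : ℕ} (hn : r + g = n) {u e : K} (hu : P.IsLine u)
    (hnil : (1 - u) ^ (g + 1) = 0) (hrg : r ≤ g)
    (he : e + ((g + 1 : ℕ) : K) = ((n + 1 : ℕ) : K) * u) (hr : ∀ i, r < i → LambdaOps.lam i e = 0) :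
    Q r e * (1 + Polynomial.X) ^ (g - r) = ∑ m ∈ range (g + 1),
      (Polynomial.C (-(1 - u)) * Polynomial.X) ^ m * (1 + Polynomial.X) ^ (g - m) * ((n + 1).choose m : Polynomial K) := by
  have h1 := poly_eq P hu he hr
  have h2 : (1 + Polynomial.C u * Polynomial.X : Polynomial K) =
      Polynomial.C (-(1 - u)) * Polynomial.X + (1 + Polynomial.X) := by
    rw [Polynomial.C_neg, Polynomial.C_sub, Polynomial.C_1]
    ring
  rw [h2, add_pow (Polynomial.C (-(1 - u)) * Polynomial.X) (1 + Polynomial.X)] at h1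
  have h3 : ∑ m ∈ range (n + 1 + 1), (Polynomial.C (-(1 - u)) * Polynomial.X) ^ m *
      (1 + Polynomial.X) ^ (n + 1 - m) * ((n + 1).choose m : Polynomial K) =
      ∑ m ∈ range (g + 1), (Polynomial.C (-(1 - u)) * Polynomial.X) ^ m *
      (1 + Polynomial.X) ^ (n + 1 - m) * ((n + 1).choose m : Polynomial K) := by
    symm
    apply Finset.sum_subset
    · intro a ha
      have := Finset.mem_range.mp ha
      exact Finset.mem_range.mpr (by omega)
    · intro a _ ha
      have ha' : g + 1 ≤ a := by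
        by_contra h
        exact ha (Finset.mem_range.mpr (by omega))
      rw [mul_pow, ← Polynomial.C_pow, neg_pow, pow_eq_zero_of_le ha' hnil]
      simp
  rw [h3] at h1
  have h4 : (1 + Polynomial.X : Polynomial K).Monic := by
    rw [add_comm]
    exact Polynomial.monic_X_add_C 1
  apply (h4.pow (r + 1)).isRegular.left
  change (1 + Polynomial.X) ^ (r + 1) * _ = (1 + Polynomial.X) ^ (r + 1) * _
  rw [Finset.mul_sum]
  rw [show (1 + Polynomial.X : Polynomial K) ^ (r + 1) * (Q r e * (1 + Polynomial.X) ^ (g - r)) =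
    Q r e * (1 + Polynomial.X) ^ (g + 1) by
      rw [mul_comm, mul_assoc, ← pow_add]
      congr 2
      omega]
  rw [h1]
  refine Finset.sum_congr rfl fun m hm => ?_
  have hm' := Finset.mem_range.mp hm
  rw [show n + 1 - m = (r + 1) + (g - m) by omega, pow_add]
  ring

/-- The identity at `-1`. -/
theorem eval_eq {n g r : ℕ} (hn : r + g = n) {u e : K} (hu : P.IsLine u)
    (hnil : (1 - u) ^ (g + 1) = 0) (hrg : r ≤ g)
    (he : e + ((g + 1 : ℕ) : K) = ((n + 1 : ℕ) : K) * u) (hr : ∀ i, r < i → LambdaOps.lam i e = 0) :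
    (∑ i ∈ range (r + 1), (-1 : K) ^ i * LambdaOps.lam i e) * 0 ^ (g - r) =
      ((n + 1).choose g : K) * (1 - u) ^ g := by
  have h := congrArg (Polynomial.eval (-1 : K)) (cancel P hn hu hnil hrg he hr)
  rw [Polynomial.eval_mul, Polynomial.eval_pow, Polynomial.eval_add, Polynomial.eval_one, Polynomial.eval_X,
    add_neg_cancel, Polynomial.eval_finsetSum, Finset.sum_eq_single g] at h
  · rw [Nat.sub_self, pow_zero, mul_one, Polynomial.eval_mul, Polynomial.eval_pow, Polynomial.eval_mul,
      Polynomial.eval_C, Polynomial.eval_X, Polynomial.eval_natCast, mul_neg, mul_one, neg_neg] at h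
    rw [mul_comm _ ((1 - u) ^ g), ← h, Q, Polynomial.eval_finsetSum]
    congr 1
    refine Finset.sum_congr rfl fun i _ => ?_
    rw [Polynomial.eval_mul, Polynomial.eval_C, Polynomial.eval_pow, Polynomial.eval_X, mul_comm]
  · intro m hm hmg
    have hm' := Finset.mem_range.mp hm
    simp only [Polynomial.eval_mul, Polynomial.eval_pow, Polynomial.eval_add, Polynomial.eval_one,
      Polynomial.eval_X, add_neg_cancel]
    rw [zero_pow (show g - m ≠ 0 by omega), mul_zero, zero_mul]
  · intro h'
    exact absurd (Finset.mem_range.mpr (by omega)) h'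

theorem choose_mul_eq_zero {n g r : ℕ} (hn : r + g = n) {u e : K} (hu : P.IsLine u)
    (hnil : (1 - u) ^ (g + 1) = 0) (hrg : r < g)
    (he : e + ((g + 1 : ℕ) : K) = ((n + 1 : ℕ) : K) * u) (hr : ∀ i, r < i → LambdaOps.lam i e = 0) :
    ((n + 1).choose g : K) * (1 - u) ^ g = 0 := by
  rw [← eval_eq P hn hu hnil hrg.le he hr, zero_pow (by omega), mul_zero]

theorem lamAlt_eq {n g : ℕ} (hn : g + g = n) {u e : K} (hu : P.IsLine u)
    (hnil : (1 - u) ^ (g + 1) = 0)
    (he : e + ((g + 1 : ℕ) : K) = ((n + 1 : ℕ) : K) * u) (hg : P.aug e = g)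
    (hr : ∀ i, g < i → LambdaOps.lam i e = 0) :
    KRR.lamAlt P e = ((n + 1).choose g : K) * (1 - u) ^ g := by
  rw [← eval_eq P hn hu hnil le_rfl he hr, Nat.sub_self, pow_zero, mul_one, KRR.lamAlt, hg, Int.toNat_natCast]

end Groth.Agent.AbVar.K521.KLam
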