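import Groth.Agent.AbVar.K521.ConOmega
import Groth.Agent.AbVar.K521.KLam
import Groth.Agent.Picfga.CurveRelDim
import Groth.Agent.Flat2H.FamOpen
import Groth.Agent.VarietyA.AmpleField
import Groth.Agent.Krr.H463.SpecField
import Groth.Agent.Krr.H460.KPn
import Groth.Agent.S1937
import Groth.Agent.AbVar.K521.KDeg
import Groth.Agent.CohqB.AmpGeneric
import Groth.Agent.Krr.H450.IsoCase
import Groth.Agent.Grpsch.PicGrp
import Groth.Agent.Fdesc.LocGen
import Mathlib.AlgebraicGeometry.Group.Smooth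
import Mathlib.AlgebraicGeometry.Group.Abelian

/-!
# Abelian varieties in projective space: the relation in `K(X)` and the degree
-/

set_option autoImplicit false
universe v u

open CategoryTheory CategoryTheory.Limits MonoidalCategory CartesianMonoidalCategory MonObj AlgebraicGeometry

namespace Groth.Agent.AbVar.K521.AvEmb

open Groth.Agent.Krr.H496.PullK0 (cl cl_ses pullK0 pullK0_cl)
open Groth.Agent.Krr.H492 Groth.Agent.Krr.H492.EulerMap Groth.Agent.Krr.H492.DualK Groth.Agent.Krr.H492.EulerClass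
open Groth.Agent.Krr.H492.TangentEl Groth.Agent.Krr.H463

variable {k : Type u} [Field k]

section Grp

variable (X : Over (Spec (CommRingCat.of k))) [GrpObj X] [IsProper X.hom] [GeometricallyIntegral X.hom]

omit [GrpObj X] [IsProper X.hom] in
theorem isIntegral : IsIntegral X.left := GeometricallyIntegral.isIntegral_of_subsingleton X.hom

theorem smooth : Smooth X.hom := by
  have : GrpObj (Over.mk X.hom) := ‹GrpObj X›
  exact smooth_of_grpObj X.hom

theorem smoothRel (g : ℕ) (hg : topologicalKrullDim ↥X.left = g) : SmoothOfRelativeDimension g X.hom := by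
  have := isIntegral X
  have := smooth X
  exact Groth.Agent.Picfga.CurveRelDim.smoothOfRelativeDimension_of_topologicalKrullDim_eq k X.left X.hom g hg

theorem cl_omega (g : ℕ) (hg : topologicalKrullDim ↥X.left = g) :
    cl (Omega.sheaf X.hom) = g • cl (Coh.structureModule X.left) := by
  have hs := smoothRel X g hg
  obtain ⟨⟨e⟩, -⟩ := S1937.result (Spec (CommRingCat.of k)) X
  let S : Scheme.{u} := Spec (CommRingCat.of k)
  let σ : S ⟶ X.left := η[X].left
  have hσ : σ ≫ X.hom = 𝟙 S := Over.w η[X]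
  have hcl : IsClosedImmersion σ := inferInstanceAs (IsClosedImmersion η[X].left)
  let N : S.Modules := Omega.conormal σ
  have hN : FlatMod.IsFinLocFreeOfRank g N := Krr.H478.SectSmooth.isFinLocFreeOfRank_conormal g X.hom σ hσ
  obtain ⟨m, hm, ⟨e'⟩⟩ := SpecField.exists_rank k (Krr.H487.KerRank.isFinLocFree_of_rank hN)
  have hmg : m = g := Krr.H487.KerRank.rank_unique hm hN
  have hN' := Krr.H487.KerRank.isFinLocFree_of_rank hN
  have h1 : cl N = g • cl (Coh.structureModule S) := by
    rw [cl_iso e' hN', hmg]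
    exact Sga67.PushTwist.c_freeMod (S := S) g
  have h2 := congrArg (pullK0 X.hom) h1
  rw [map_nsmul, pullK0_cl X.hom hN', pullK0_cl X.hom isFinLocFree_structure] at h2
  have h3 : cl ((Scheme.Modules.pullback X.hom).obj (Coh.structureModule S)) = cl (Coh.structureModule X.left) :=
    cl_iso (@asIso _ _ _ _ _ (Groth.Agent.Grpsch.PicGrp.isIso_pullOne X.hom)).symm
      (Groth.Agent.PerfB.FlatPull.isFinLocFree_pullback _ isFinLocFree_structure)
  have h4 : cl (Omega.sheaf X.hom) = cl ((Scheme.Modules.pullback X.hom).obj N) := by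
    refine cl_iso e (Krr.H487.KerRank.isFinLocFree_of_rank (Dual.H339.OmegaRank.isFinLocFreeOfRank_omega g X.hom))
  rw [h4, h2, h3]

end Grp

section Emb

variable {X : Over (Spec (CommRingCat.of k))} {n : ℕ} (i : X.left ⟶ KRR.PY n (Spec (CommRingCat.of k)))

/-- `O(d)` on `X`. -/
noncomputable abbrev tw (d : ℤ) : X.left.Modules :=
  (Scheme.Modules.pullback i).obj (Twist.twistOver n (Spec (CommRingCat.of k)) d)

theorem isInvertible_tw' (d : ℤ) : PicF.IsInvertible (tw i d) :=
  Groth.Agent.Fdesc.LocGen.isInvertible_pullback i (Ega3B.ProjFrame.isInvertible_twistOver n d)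

theorem isFinLocFreeOfRank_tw (d : ℤ) : FlatMod.IsFinLocFreeOfRank 1 (tw i d) :=
  Ega2.QCohLocal.isFinLocFreeOfRank_one_iff.mpr (isInvertible_tw' i d)

theorem isFinLocFree_tw' (d : ℤ) : FlatMod.IsFinLocFree (tw i d) :=
  Krr.H487.KerRank.isFinLocFree_of_rank (isFinLocFreeOfRank_tw i d)

theorem isAmple_tw [IsClosedImmersion i] : CohB1.IsAmple (tw i 1) := by
  obtain ⟨e⟩ := ConOmega.pull_tw_iso i 1
  have h1 : IsAffineHom (bs (Spec (CommRingCat.of k))) := inferInstance
  have h2 : IsAffineHom (q n (Spec (CommRingCat.of k))) :=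
    MorphismProperty.pullback_fst (P := @IsAffineHom) _ _ h1
  exact Groth.Agent.CohqB.AmpCocycle.isAmple_of_iso e
    (Flat2H.FamOpen.isAmple_pullback_of_isAffineHom (i ≫ q n (Spec (CommRingCat.of k)))
      (VarietyA.AmpleField.isAmple_twistProjSpace n _))

theorem nonempty_tensor : Nonempty (CohB1.tensorMod (tw i 1) (tw i (-1)) ≅ Coh.structureModule X.left) := by
  obtain ⟨e1⟩ := ConOmega.pull_tw_iso i 1
  obtain ⟨e2⟩ := ConOmega.pull_tw_iso i (-1)
  have h := congrArg (Groth.Agent.Grpsch.PicGrp.pull (i ≫ q n (Spec (CommRingCat.of k)))) (mk_tw_mul.{u} n)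
  rw [map_mul, map_one, Groth.Agent.Grpsch.PicGrp.pull_mk, Groth.Agent.Grpsch.PicGrp.pull_mk, mul_comm,
    Groth.Agent.Grpsch.PicGrp.mk_mul_mk, Groth.Agent.Grpsch.PicGrp.mk_eq_one_iff] at h
  obtain ⟨e⟩ := h
  exact ⟨(Ega2.Tens.mapTIso e1 e2).symm ≪≫ e⟩

variable {KX : Type v} [CommRing KX] [LambdaRing.LambdaOps KX] {PX : LambdaRing.PosStructure KX}
  {φX : SGA6.Kvb X.left →+ KX} (hKX : KRR.IsModel X.left KX PX φX)

include hKX in
theorem isLine : PX.IsLine (φX (KRR.cl X.left (tw i (-1)))) :=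
  ⟨(hKX.mem_pos_iff _).2 ⟨1, _, le_rfl, isFinLocFreeOfRank_tw i (-1), rfl⟩, by
    rw [hKX.aug_cl 1 _ (isFinLocFreeOfRank_tw i (-1))]; rfl⟩

end Emb

section Main

variable (X : Over (Spec (CommRingCat.of k))) [GrpObj X] [IsProper X.hom] [GeometricallyIntegral X.hom]
  (g : ℕ) (hg : topologicalKrullDim ↥X.left = g) {n : ℕ}
  (i : X.left ⟶ KRR.PY n (Spec (CommRingCat.of k))) [IsClosedImmersion i]
  (hi : i ≫ KRR.pr n (Spec (CommRingCat.of k)) = X.hom)
  {KX : Type v} [CommRing KX] [LambdaRing.LambdaOps KX] {PX : LambdaRing.PosStructure KX}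
  {φX : SGA6.Kvb X.left →+ KX} (hKX : KRR.IsModel X.left KX PX φX)

omit [GrpObj X] [GeometricallyIntegral X.hom] in
theorem isNoetherian : IsNoetherian X.left := by
  have h1 : IsLocallyNoetherian X.left := LocallyOfFiniteType.isLocallyNoetherian X.hom
  have h2 : CompactSpace X.left := QuasiCompact.compactSpace_of_compactSpace X.hom
  exact { }

include hg hKX in
theorem nil : (1 - φX (KRR.cl X.left (tw i (-1)))) ^ (g + 1) = 0 := by
  have := isIntegral X
  have := isNoetherian X
  exact KDeg.pow_eq_zero hKX (isAmple_tw i) g hg.le (isLine i hKX)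

include hg hi hKX in
theorem rel : ∃ r : ℕ, r + g = n ∧ FlatMod.IsFinLocFreeOfRank r (Omega.conormal i) ∧
    φX (KRR.cl X.left (Omega.conormal i)) + ((g + 1 : ℕ) : KX) =
      ((n + 1 : ℕ) : KX) * φX (KRR.cl X.left (tw i (-1))) ∧
    (∀ j, r < j → LambdaRing.LambdaOps.lam j (φX (KRR.cl X.left (Omega.conormal i))) = 0) ∧
    ((n + 1 : ℕ) : KX) * φX (KRR.cl X.left (tw i 1)) - 1 -
      φX (KRR.cl X.left ((DCoh.sheafHom (Omega.conormal i)).obj (Coh.structureModule X.left))) = (g : KX) := by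
  have := isIntegral X
  have hs := smoothRel X g hg
  obtain ⟨r, hr, hC, h1, h2⟩ := ConOmega.main i X.hom hi hs (cl_omega X g hg)
  refine ⟨r, hr, hC, ?_, ?_, ?_⟩
  · have h3 := congrArg φX h1
    rw [map_add, map_nsmul, map_nsmul] at h3
    have h4 : φX (cl (Coh.structureModule X.left)) = 1 := hKX.map_one
    rw [h4, nsmul_eq_mul, nsmul_eq_mul, _root_.mul_one] at h3
    exact h3
  · intro j hj
    rcases Nat.eq_zero_or_pos r with h0 | h0
    · subst h0
      have h3 : KRR.cl X.left (Omega.conormal i) = 0 :=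
        Krr.H450.IsoCase.cl_isZero (Krr.H495.Rank.isZero_of_rank_zero hC)
      rw [h3, map_zero, ← Groth.Agent.Books.Lambda1.coeff_lamSeries, Groth.Agent.Books.Lambda1.lamSeries_zero,
        PowerSeries.coeff_one, if_neg (by omega)]
    · refine PX.lam_eq_zero _ ((hKX.mem_pos_iff _).2 ⟨r, _, h0, hC, rfl⟩) j ?_
      rw [hKX.aug_cl r _ hC]
      exact_mod_cast hj
  · have h3 := congrArg φX h2
    rw [map_add, map_nsmul, map_nsmul] at h3
    have h4 : φX (cl (Coh.structureModule X.left)) = 1 := hKX.map_one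
    rw [h4, nsmul_eq_mul, nsmul_eq_mul, _root_.mul_one] at h3
    have h5 : φX (KRR.cl X.left ((DCoh.sheafHom (Omega.conormal i)).obj (Coh.structureModule X.left))) =
        φX (dualK X.left (cl (Omega.conormal i))) :=
      congrArg φX (cl_sheafHom (Krr.H487.KerRank.isFinLocFree_of_rank hC))
    rw [h5]
    have h6 : ((n + 1 : ℕ) : KX) * φX (KRR.cl X.left (tw i 1)) =
        φX (dualK X.left (cl (Omega.conormal i))) + ((g + 1 : ℕ) : KX) := h3.symm
    rw [h6]
    push_cast
    ring

end Main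

end Groth.Agent.AbVar.K521.AvEmb
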