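import Mathlib.AlgebraicGeometry.Noetherian
import Mathlib.AlgebraicGeometry.Stalk
import Mathlib.AlgebraicGeometry.Morphisms.ClosedImmersion
import Mathlib.AlgebraicGeometry.FunctionField
import Mathlib.RingTheory.Filtration

/-!
# Closed subschemes containing all infinitesimal neighbourhoods of a point

`isIso_of_factors`: `X` integral locally Noetherian, `c : Z ⟶ X` a closed immersion through which all
`Spec (O_{X,x} / m^j) ⟶ X` factor; then `c` is an isomorphism.
-/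

set_option autoImplicit false
universe u

open CategoryTheory Limits AlgebraicGeometry TopologicalSpace

namespace K521.Krull

variable {X : Scheme.{u}}

theorem germ_mem (x : X) (I : Ideal (X.presheaf.stalk x)) {Z : Scheme.{u}} (c : Z ⟶ X)
    (t : Spec (CommRingCat.of (X.presheaf.stalk x ⧸ I)) ⟶ Z)
    (ht : t ≫ c = Spec.map (CommRingCat.ofHom (Ideal.Quotient.mk I)) ≫ X.fromSpecStalk x) (U : X.Opens) (hxU : x ∈ U)
    (a : Γ(X, U)) (ha : c.app U a = 0) : X.presheaf.germ U x hxU a ∈ I := by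
  let W : Scheme.{u} := Spec (CommRingCat.of (X.presheaf.stalk x ⧸ I))
  let q : X.presheaf.stalk x ⟶ CommRingCat.of (X.presheaf.stalk x ⧸ I) := CommRingCat.ofHom (Ideal.Quotient.mk I)
  have h0 : (X.fromSpecStalk x) ⁻¹ᵁ U = ⊤ := by
    rw [eq_top_iff]
    intro y _
    have h1 : (X.fromSpecStalk x) y ∈ Set.range (X.fromSpecStalk x) := ⟨y, rfl⟩
    rw [Scheme.range_fromSpecStalk] at h1
    exact h1.mem_open U.2 hxU
  have h2 : (⊤ : W.Opens) ≤ (Spec.map q ≫ X.fromSpecStalk x) ⁻¹ᵁ U := by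
    change (⊤ : W.Opens) ≤ (Spec.map q) ⁻¹ᵁ ((X.fromSpecStalk x) ⁻¹ᵁ U)
    rw [h0]
    exact le_rfl
  have h2' : (⊤ : W.Opens) ≤ (t ≫ c) ⁻¹ᵁ U := by rw [ht]; exact h2
  have h3 : (t ≫ c).appLE U ⊤ h2' = (Spec.map q ≫ X.fromSpecStalk x).appLE U ⊤ h2 := by
    simp only [ht]; rfl
  have h2'' : (⊤ : W.Opens) ≤ (Spec.map q) ⁻¹ᵁ ((X.fromSpecStalk x) ⁻¹ᵁ U) := h2
  have e1 : (Spec (X.presheaf.stalk x)).presheaf.map (homOfLE (le_top : (X.fromSpecStalk x) ⁻¹ᵁ U ≤ ⊤)).op ≫
      (Spec.map q).appLE ((X.fromSpecStalk x) ⁻¹ᵁ U) ⊤ h2'' = (Spec.map q).appTop := by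
    rw [Scheme.Hom.map_appLE]
    exact Scheme.Hom.appLE_eq_app _
  have h4 : (Spec.map q ≫ X.fromSpecStalk x).appLE U ⊤ h2 =
      X.presheaf.germ U x hxU ≫ q ≫ (Scheme.ΓSpecIso _).inv := by
    refine (Scheme.Hom.comp_appLE (Spec.map q) (X.fromSpecStalk x) U ⊤ h2).trans ?_
    rw [Scheme.fromSpecStalk_app hxU, Scheme.ΓSpecIso_inv_naturality, ← e1]
    rfl
  have h5 : (t ≫ c).appLE U ⊤ h2' a = 0 := by
    rw [Scheme.Hom.comp_appLE]
    change (t.appLE _ ⊤ _) (c.app U a) = 0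
    rw [ha, map_zero]
  rw [h3, h4] at h5
  have h6 : (Scheme.ΓSpecIso (CommRingCat.of (X.presheaf.stalk x ⧸ I))).inv (q (X.presheaf.germ U x hxU a)) = 0 := h5
  have h7 : q (X.presheaf.germ U x hxU a) = 0 := by
    have h8 := congrArg (Scheme.ΓSpecIso (CommRingCat.of (X.presheaf.stalk x ⧸ I))).hom h6
    rw [map_zero] at h8
    rw [← h8]
    exact (congr($((Scheme.ΓSpecIso (CommRingCat.of (X.presheaf.stalk x ⧸ I))).inv_hom_id) _)).symm
  exact Ideal.Quotient.eq_zero_iff_mem.mp h7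

/-- A closed subscheme of an integral scheme containing all infinitesimal neighbourhoods of a point is everything. -/
theorem isIso_of_factors [IsIntegral X] [IsLocallyNoetherian X] (x : X) {Z : Scheme.{u}} (c : Z ⟶ X)
    [IsClosedImmersion c]
    (h : ∀ (j : ℕ) (I : Ideal (X.presheaf.stalk x)), I = (IsLocalRing.maximalIdeal (X.presheaf.stalk x)) ^ (j + 1) →
      ∃ t : Spec (CommRingCat.of (X.presheaf.stalk x ⧸ I)) ⟶ Z,
      t ≫ c = Spec.map (CommRingCat.ofHom (Ideal.Quotient.mk I)) ≫ X.fromSpecStalk x) : IsIso c := by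
  obtain ⟨_, ⟨U, hU, rfl⟩, hxU, -⟩ :=
    X.isBasis_affineOpens.exists_subset_of_mem_open (a := x) (u := Set.univ) trivial isOpen_univ
  have hxU' : x ∈ U := hxU
  have hinj : ∀ a : Γ(X, U), c.app U a = 0 → a = 0 := by
    intro a ha
    have h1 : X.presheaf.germ U x hxU' a ∈ (⨅ j : ℕ, (IsLocalRing.maximalIdeal (X.presheaf.stalk x)) ^ j) := by
      rw [Ideal.mem_iInf]
      intro j
      obtain ⟨t, ht⟩ := h j _ rfl
      exact Ideal.pow_le_pow_right (Nat.le_succ j) (germ_mem x _ c t ht U hxU' a ha)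
    rw [Ideal.iInf_pow_eq_bot_of_isLocalRing _ (Ideal.IsPrime.ne_top'), Ideal.mem_bot] at h1
    have := germ_injective_of_isIntegral X x hxU'
    exact this (h1.trans (map_zero _).symm)
  have hsub : (U : Set X) ⊆ Set.range c := by
    intro y hy
    by_contra hyc
    have hcl : IsClosed (Set.range c) := c.isClosedEmbedding.isClosed_range
    obtain ⟨f, hfV, hyf⟩ := hU.exists_basicOpen_le (V := ⟨(Set.range c)ᶜ, hcl.isOpen_compl⟩) ⟨y, hyc⟩ hy
    have h1 : Z.basicOpen (c.app U f) = ⊥ := by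
      rw [← Scheme.preimage_basicOpen, eq_bot_iff]
      intro z hz
      exact hfV hz ⟨z, rfl⟩
    have h2 : IsCompact ((c ⁻¹ᵁ U : Z.Opens) : Set Z) := (hU.preimage c).isCompact
    rw [← Scheme.isNilpotent_iff_basicOpen_eq_bot_of_isCompact h2] at h1
    obtain ⟨n, hn⟩ := h1
    rw [← map_pow] at hn
    have h3 := hinj _ hn
    have h4 : Nonempty U := ⟨⟨x, hxU'⟩⟩
    have h5 : f = 0 := eq_zero_of_pow_eq_zero h3
    rw [h5, Scheme.basicOpen_zero] at hyf
    exact hyf
  have hsurj : Surjective c := by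
    constructor
    rw [← Set.range_eq_univ]
    have hcl : IsClosed (Set.range c) := c.isClosedEmbedding.isClosed_range
    rw [← hcl.closure_eq, ← Set.univ_subset_iff, ← (U.2.dense ⟨x, hxU'⟩).closure_eq]
    exact closure_mono hsub
  exact isIso_of_isClosedImmersion_of_surjective c

end K521.Krull
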