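import Groth.Agent.AbVar.K521.Infin
import Groth.Agent.AbVar.K521.Krull

/-!
# Density of `X[p^m]`, `p` the characteristic

`isIso_of_char`: `X` an integral group scheme locally of finite type over a field in which `p = 0`, `c : Z ⟶ X` a
closed immersion through which all `X[p^m] ⟶ X` factor; then `c` is an isomorphism.
-/

set_option autoImplicit false
universe u

open CategoryTheory Limits AlgebraicGeometry MonoidalCategory CartesianMonoidalCategory
open scoped MonObj
open Groth.Agent.Grpsch.AbTangent K521.Infin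

namespace K521.CharP

variable {K : Type u} [Field K]

theorem isIso_of_char (X : Over (Spec (CommRingCat.of K))) [GrpObj X] [LocallyOfFiniteType X.hom] [IsIntegral X.left]
    (p : ℕ) (hp : (p : K) = 0) (Z : Scheme.{u}) (c : Z ⟶ X.left) [IsClosedImmersion c]
    (hc : ∀ m : ℕ, 0 < m →
      ∃ t : pullback η[X].left ((𝟙 X ^ (p ^ m)).left) ⟶ Z,
        t ≫ c = pullback.snd η[X].left ((𝟙 X ^ (p ^ m)).left)) : IsIso c := by
  have hN : IsLocallyNoetherian X.left := LocallyOfFiniteType.isLocallyNoetherian (Y := Spec (CommRingCat.of K)) X.hom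
  obtain ⟨⟨x, ε, hε⟩, hx⟩ := (SpecToEquivOfLocalRing X.left (.of K)).symm.surjective η[X].left
  simp only [SpecToEquivOfLocalRing_symm_apply] at hx
  obtain ⟨κ, hκ⟩ : ∃ κ : CommRingCat.of K ⟶ X.left.presheaf.stalk x, Spec.map κ = X.left.fromSpecStalk x ≫ X.hom :=
    ⟨Spec.preimage _, Spec.map_preimage _⟩
  have hκε : κ ≫ ε = 𝟙 _ := by
    apply Spec.map_injective
    rw [Spec.map_comp, hκ, ← Category.assoc, hx, Spec.map_id]
    exact Over.w η[X]
  let O : Type u := X.left.presheaf.stalk x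
  let _ : Algebra K O := κ.hom.toAlgebra
  refine K521.Krull.isIso_of_factors x c (fun j I hI ↦ ?_)
  have hIm : I ≤ IsLocalRing.maximalIdeal O := by
    rw [hI]; exact Ideal.pow_le_self (Nat.succ_ne_zero j)
  have hI' : I ≠ ⊤ := fun h ↦ (Ideal.IsPrime.ne_top' : IsLocalRing.maximalIdeal O ≠ ⊤) (top_le_iff.mp (h ▸ hIm))
  let R : Type u := O ⧸ I
  have hnt : Nontrivial R := Ideal.Quotient.nontrivial_iff.mpr hI'
  have hloc : IsLocalRing R := IsLocalRing.of_surjective' (Ideal.Quotient.mk I) Ideal.Quotient.mk_surjective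
  let n : Ideal R := (IsLocalRing.maximalIdeal O).map (Ideal.Quotient.mk I)
  have hn1 : n ^ (j + 1) = ⊥ := by
    rw [← Ideal.map_pow, ← hI]
    exact Ideal.map_quotient_self I
  have hn2 : n ≠ ⊤ := by
    intro h
    have h2 := congrArg (Ideal.comap (Ideal.Quotient.mk I)) h
    rw [Ideal.comap_map_of_surjective _ Ideal.Quotient.mk_surjective, Ideal.comap_top] at h2
    apply (Ideal.IsPrime.ne_top' : IsLocalRing.maximalIdeal O ≠ ⊤)
    rw [← h2, eq_comm, sup_eq_left]
    intro a ha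
    rw [Ideal.mem_comap, Ideal.mem_bot, Ideal.Quotient.eq_zero_iff_mem] at ha
    exact hIm ha
  let y : sp (K := K) R ⟶ X := Over.homMk (Spec.map (CommRingCat.ofHom (Ideal.Quotient.mk I)) ≫ X.left.fromSpecStalk x) (by
    rw [Category.assoc]
    change _ ≫ X.left.fromSpecStalk x ≫ X.hom = Spec.map (CommRingCat.ofHom (algebraMap K R))
    rw [← hκ, ← Spec.map_comp]
    rfl)
  have hy : spMap (Ideal.Quotient.mkₐ K n) ≫ y = 1 := by
    ext1
    change Spec.map (CommRingCat.ofHom (Ideal.Quotient.mkₐ K n).toRingHom) ≫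
      Spec.map (CommRingCat.ofHom (Ideal.Quotient.mk I)) ≫ X.left.fromSpecStalk x =
        Spec.map (CommRingCat.ofHom (algebraMap K (R ⧸ n))) ≫ η[X].left
    rw [← hx, ← Spec.map_comp_assoc, ← Spec.map_comp_assoc]
    congr 2
    refine CommRingCat.hom_ext (RingHom.ext fun a ↦ ?_)
    change Ideal.Quotient.mk n (Ideal.Quotient.mk I a) = Ideal.Quotient.mk n (Ideal.Quotient.mk I (κ.hom (ε.hom a)))
    rw [Ideal.Quotient.eq, ← map_sub]
    refine Ideal.mem_map_of_mem _ ?_
    rw [IsLocalRing.mem_maximalIdeal, mem_nonunits_iff]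
    intro hu
    have h1 := hu.map ε.hom
    rw [map_sub] at h1
    have h2 : ε.hom (κ.hom (ε.hom a)) = ε.hom a := congr($hκε (ε.hom a))
    rw [h2, sub_self] at h1
    exact not_isUnit_zero h1
  have h1 : y ^ (p ^ (j + 1)) = 1 := by
    rw [pow_succ, pow_mul, K521.Infin.pow_eq_one p hp j n hn1 hn2 y hy, one_pow]
  obtain ⟨t, ht⟩ := hc (j + 1) (Nat.succ_pos j)
  have h2 : Spec.map (CommRingCat.ofHom (algebraMap K R)) ≫ η[X].left = y.left ≫ (𝟙 X ^ (p ^ (j + 1))).left := by
    have h3 : y ≫ (𝟙 X ^ (p ^ (j + 1))) = 1 := by rw [MonObj.comp_pow, Category.comp_id, h1]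
    have h4 := congrArg (fun z ↦ z.left) h3
    exact h4.symm
  refine ⟨pullback.lift _ _ h2 ≫ t, ?_⟩
  rw [Category.assoc, ht, pullback.lift_snd]
  rfl

end K521.CharP
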