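import Groth.Agent.Krr.H492.TangentEl
import Groth.Agent.Krr.H487.KerRank
import Groth.Agent.Krr.H482.PullLambda
import Groth.Agent.Krr.H478.SectSmooth
import Groth.Agent.Krr.H495.Rank
import Groth.Agent.Dual.H339.OmegaRank
import Groth.Agent.Sga67.PushTwist
import Groth.Prelude.Def_KRR

/-!
# The conormal module of a smooth closed subscheme of `P^n_Y`

For `i : X ⟶ P^n_Y` a closed immersion with `i ≫ pr` smooth of relative dimension `g`, the conormal module `C` of `i` is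
finite locally free of rank `r` with `r + g = n`, and `[C] + [Ω_{X/Y}] + 1 = (n + 1) [i^* O(-1)]` in `K(X)`.
-/

set_option autoImplicit false
universe u

open CategoryTheory CategoryTheory.Limits AlgebraicGeometry

namespace Groth.Agent.AbVar.K521.ConOmega

open Groth.Agent.Krr.H496.PullK0 (cl cl_ses pullK0 pullK0_cl)
open Groth.Agent.Krr.H492 Groth.Agent.Krr.H492.EulerMap Groth.Agent.Krr.H492.DualK Groth.Agent.Krr.H492.EulerClass
open Groth.Agent.Grpsch.ConormalIso Groth.Agent.Krr.H492.TangentEl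

variable {n : ℕ} {X Y : Scheme.{u}} (i : X ⟶ KRR.PY n Y) (f : X ⟶ Y) (hf : i ≫ KRR.pr n Y = f)

/-- `X ×_Y P^n_Y ⟶ T_n ×_ℤ X`. -/
noncomputable def cmp : pullback f (KRR.pr n Y) ⟶ pullback (CohB1.ProjSpace.toSpec.{u} n Z.{u}) (bs X) :=
  pullback.lift (pullback.snd _ _ ≫ q n Y) (pullback.fst _ _) (specULiftZIsTerminal.hom_ext _ _)

/-- the inverse. -/
noncomputable def cmpInv : pullback (CohB1.ProjSpace.toSpec.{u} n Z.{u}) (bs X) ⟶ pullback f (KRR.pr n Y) :=
  pullback.lift (pullback.snd _ _) (lf (pullback.fst _ _) (pullback.snd _ _ ≫ f)) (by rw [lf_pr])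

theorem cmp_inv : cmp (n := n) f ≫ cmpInv f = 𝟙 _ := by
  apply pullback.hom_ext
  · rw [Category.assoc, cmpInv, pullback.lift_fst, cmp, pullback.lift_snd, Category.id_comp]
  · rw [Category.assoc, cmpInv, pullback.lift_snd, Category.id_comp]
    apply py_ext
    · rw [Category.assoc, lf_q, cmp, pullback.lift_fst]
    · rw [Category.assoc, lf_pr, ← Category.assoc, cmp, pullback.lift_snd, pullback.condition]

theorem inv_cmp : cmpInv (n := n) f ≫ cmp f = 𝟙 _ := by
  apply pullback.hom_ext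
  · rw [Category.assoc, cmp, pullback.lift_fst, ← Category.assoc, cmpInv, pullback.lift_snd, lf_q,
      Category.id_comp]
  · rw [Category.assoc, cmp, pullback.lift_snd, cmpInv, pullback.lift_fst, Category.id_comp]

/-- The isomorphism. -/
noncomputable def cmpIso : pullback f (KRR.pr n Y) ≅ pullback (CohB1.ProjSpace.toSpec.{u} n Z.{u}) (bs X) :=
  ⟨cmp f, cmpInv f, cmp_inv f, inv_cmp f⟩

include hf in
/-- The conormal sequence `0 → C → (i ≫ q)^* Ω_{P^n_ℤ} → Ω_{X/Y} → 0`. -/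
theorem exists_shortExact [IsClosedImmersion i] [Smooth f] [IsSeparated f] :
    ∃ S : ShortComplex X.Modules, S.ShortExact ∧ Nonempty (S.X₁ ≅ Omega.conormal i) ∧
      Nonempty (S.X₂ ≅ (Scheme.Modules.pullback (i ≫ q n Y)).obj
        (Omega.sheaf (CohB1.ProjSpace.toSpec.{u} n Z.{u}))) ∧
      Nonempty (S.X₃ ≅ Omega.sheaf f) := by
  have hp : IsProper (CohB1.ProjSpace.toSpec.{u} n Z.{u}) := Groth.Agent.Ega3B.ProjProper.isProper_toSpec n _
  have hs1 : SmoothOfRelativeDimension n (CohB1.ProjSpace.toSpec.{u} n Z.{u}) :=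
    Groth.Agent.Sga5.ProjSmooth.smooth_toSpec n _
  have hs : Smooth (CohB1.ProjSpace.toSpec.{u} n Z.{u}) := SmoothOfRelativeDimension.smooth n _
  have wA : 𝟙 X ≫ f = i ≫ KRR.pr n Y := by rw [Category.id_comp, hf]
  obtain ⟨S, hS, ⟨e₁⟩, ⟨e₂⟩, ⟨e₃⟩⟩ := ConProd.exists_shortExact f (KRR.pr n Y) i (𝟙 X) wA
  have wB : (i ≫ q n Y) ≫ CohB1.ProjSpace.toSpec.{u} n Z.{u} = 𝟙 X ≫ bs X := specULiftZIsTerminal.hom_ext _ _
  obtain ⟨T, hT, ⟨d₁⟩, ⟨d₂⟩, ⟨d₃⟩⟩ := ConProd.exists_shortExact (CohB1.ProjSpace.toSpec.{u} n Z.{u}) (bs X)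
    (𝟙 X) (i ≫ q n Y) wB
  have hz : IsZero T.X₁ := by
    refine IsZero.of_iso ?_ d₁
    exact Krr.H495.Rank.isZero_of_rank_zero
      (Krr.H478.SectSmooth.isFinLocFreeOfRank_conormal 0 (𝟙 X) (𝟙 X) (Category.comp_id _))
  have hg : IsIso T.g := by
    have := hT.epi_g
    have hm : Mono T.g := by
      refine (ShortComplex.exact_iff_mono _ ?_).mp hT.exact
      exact hz.eq_of_src _ _
    exact isIso_of_mono_of_epi _
  have hcl : IsClosedImmersion (pullback.lift (𝟙 X) i wA) := by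
    have h3 : IsClosedImmersion (pullback.lift (𝟙 X) i wA ≫ pullback.snd f (KRR.pr n Y)) := by
      rw [pullback.lift_snd]
      infer_instance
    exact IsClosedImmersion.of_comp _ (pullback.snd f (KRR.pr n Y))
  obtain ⟨c⟩ := nonempty_conormal_iso (cmpIso f) (pullback.lift (𝟙 X) i wA)
  have hc : pullback.lift (𝟙 X) i wA ≫ (cmpIso f).hom = pullback.lift (i ≫ q n Y) (𝟙 X) wB := by
    change pullback.lift (𝟙 X) i wA ≫ cmp f = _
    apply pullback.hom_ext
    · rw [Category.assoc, cmp, pullback.lift_fst, pullback.lift_snd_assoc, pullback.lift_fst]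
    · rw [Category.assoc, cmp, pullback.lift_snd, pullback.lift_fst, pullback.lift_snd]
  rw [hc] at c
  refine ⟨S, hS, ⟨e₁⟩, ⟨e₂ ≪≫ c ≪≫ d₂.symm ≪≫ asIso T.g ≪≫ d₃⟩, ⟨?_⟩⟩
  exact e₃ ≪≫ (Scheme.Modules.pullbackId X).app _

theorem pull_tw_iso (d : ℤ) : Nonempty ((Scheme.Modules.pullback (i ≫ q n Y)).obj (Twist.twistProjSpace.{u} n Z.{u} d) ≅
    (Scheme.Modules.pullback i).obj (Twist.twistOver n Y d)) :=
  ⟨((Scheme.Modules.pullbackComp i (q n Y)).app (Twist.twistProjSpace.{u} n Z.{u} d)).symm⟩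

theorem cl_pull_tw (d : ℤ) : cl ((Scheme.Modules.pullback (i ≫ q n Y)).obj (Twist.twistProjSpace.{u} n Z.{u} d)) =
    cl ((Scheme.Modules.pullback i).obj (Twist.twistOver n Y d)) := by
  obtain ⟨e⟩ := pull_tw_iso i d
  exact cl_iso e (Groth.Agent.PerfB.FlatPull.isFinLocFree_pullback _ (isFinLocFree_tw n d))

/-- `[h^* Ω] + 1 = (n + 1) [i^* O(-1)]`. -/
theorem cl_pull_omega : cl ((Scheme.Modules.pullback (i ≫ q n Y)).obj
      (Omega.sheaf (CohB1.ProjSpace.toSpec.{u} n Z.{u}))) + cl (Coh.structureModule X) =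
    (n + 1) • cl ((Scheme.Modules.pullback i).obj (Twist.twistOver n Y (-1))) := by
  have h1 := congrArg (pullK0 (i ≫ q n Y)) (flf_and_cl.{u} n).2
  rw [map_add, map_nsmul, pullK0_cl _ (flf_and_cl.{u} n).1,
    pullK0_cl _ isFinLocFree_structure, pullK0_cl _ (isFinLocFree_tw n (-1)), cl_pull_tw,
    cl_iso (@asIso _ _ _ _ _ (Groth.Agent.Grpsch.PicGrp.isIso_pullOne (i ≫ q n Y))).symm
      (Groth.Agent.PerfB.FlatPull.isFinLocFree_pullback _ isFinLocFree_structure)] at h1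
  exact h1

include hf in
/-- The rank of the conormal module and its class. -/
theorem main [Nonempty X] [IsClosedImmersion i] {g : ℕ} (hs : SmoothOfRelativeDimension g f) [IsSeparated f]
    (hΩ : cl (Omega.sheaf f) = g • cl (Coh.structureModule X)) :
    ∃ r : ℕ, r + g = n ∧ FlatMod.IsFinLocFreeOfRank r (Omega.conormal i) ∧
      cl (Omega.conormal i) + (g + 1) • cl (Coh.structureModule X) =
        (n + 1) • cl ((Scheme.Modules.pullback i).obj (Twist.twistOver n Y (-1))) ∧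
      dualK X (cl (Omega.conormal i)) + (g + 1) • cl (Coh.structureModule X) =
        (n + 1) • cl ((Scheme.Modules.pullback i).obj (Twist.twistOver n Y 1)) := by
  have hsm : Smooth f := SmoothOfRelativeDimension.smooth g f
  obtain ⟨S, hS, ⟨e₁⟩, ⟨e₂⟩, ⟨e₃⟩⟩ := exists_shortExact i f hf
  have hp : IsProper (CohB1.ProjSpace.toSpec.{u} n Z.{u}) := Groth.Agent.Ega3B.ProjProper.isProper_toSpec n _
  have hs1 : SmoothOfRelativeDimension n (CohB1.ProjSpace.toSpec.{u} n Z.{u}) :=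
    Groth.Agent.Sga5.ProjSmooth.smooth_toSpec n _
  have h3 : FlatMod.IsFinLocFreeOfRank g S.X₃ :=
    Krr.H487.KerRank.isFinLocFreeOfRank_of_iso e₃.symm (Dual.H339.OmegaRank.isFinLocFreeOfRank_omega g f)
  have h2 : FlatMod.IsFinLocFreeOfRank n S.X₂ :=
    Krr.H487.KerRank.isFinLocFreeOfRank_of_iso e₂.symm
      (Krr.H482.PullLambda.isFinLocFreeOfRank_pullback _ (Dual.H339.OmegaRank.isFinLocFreeOfRank_omega n _))
  have hle : g ≤ n := Krr.H487.KerRank.rank_le hS h2 h3 (Classical.arbitrary X)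
  obtain ⟨r, rfl⟩ : ∃ r, n = r + g := ⟨n - g, by omega⟩
  have h1 : FlatMod.IsFinLocFreeOfRank r S.X₁ := Krr.H487.KerRank.isFinLocFreeOfRank_left hS h2 h3
  have hC : FlatMod.IsFinLocFreeOfRank r (Omega.conormal i) := Krr.H487.KerRank.isFinLocFreeOfRank_of_iso e₁ h1
  have h1' := Krr.H487.KerRank.isFinLocFree_of_rank h1
  have h2' := Krr.H487.KerRank.isFinLocFree_of_rank h2
  have h3' := Krr.H487.KerRank.isFinLocFree_of_rank h3
  have h4 := cl_ses hS h1' h2' h3'
  rw [cl_iso e₁ h1', cl_iso e₂ h2', cl_iso e₃ h3', hΩ] at h4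
  refine ⟨r, rfl, hC, ?_, ?_⟩
  · rw [← cl_pull_omega, h4, succ_nsmul]
    abel
  · have h5 := congrArg (dualK X) h4
    rw [map_add, map_nsmul, dualK_one] at h5
    have h6 := cl_dual_pull (r + g) (i ≫ q (r + g) Y)
    rw [h5, cl_pull_tw] at h6
    rw [← h6, succ_nsmul]
    abel

end Groth.Agent.AbVar.K521.ConOmega
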