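import Mathlib.Data.Nat.Choose.Basic
import Mathlib.Data.Nat.Factorial.Basic
import Mathlib.Tactic.Linarith
import Mathlib.Tactic.NormNum
import Mathlib.Tactic.IntervalCases
import Mathlib.Tactic.Ring

/-!
# `g!` does not divide `C(2g + 1, g)` for `g ≥ 3`
-/

set_option autoImplicit false

namespace Groth.Agent.AbVar.K521.FactNum

open Nat

theorem choose_step (g : ℕ) : (2 * (g + 1) + 1).choose (g + 1) * (g + 2) * (g + 1) =
    (2 * g + 3) * (2 * g + 2) * (2 * g + 1).choose g := by
  have h1 : (2 * g + 2) * (2 * g + 1).choose g = (2 * g + 2).choose (g + 1) * (g + 1) :=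
    Nat.add_one_mul_choose_eq (2 * g + 1) g
  have h2 : (2 * g + 3) * (2 * g + 2).choose (g + 1) = (2 * g + 3).choose (g + 2) * (g + 2) :=
    Nat.add_one_mul_choose_eq (2 * g + 2) (g + 1)
  have h3 : (2 * (g + 1) + 1).choose (g + 1) = (2 * g + 3).choose (g + 2) := by
    rw [show 2 * (g + 1) + 1 = 2 * g + 3 by ring]
    exact (Nat.choose_symm_of_eq_add (by omega)).symm
  rw [h3, ← h2, mul_assoc, ← h1]
  ring

theorem choose_lt (g : ℕ) (hg : 8 ≤ g) : (2 * g + 1).choose g < g ! := by
  induction g, hg using Nat.le_induction with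
  | base => decide
  | succ g hg ih =>
    have h1 := choose_step g
    have h2 : (2 * g + 3) * (2 * g + 2) * (2 * g + 1).choose g < (g + 1)! * (g + 2) * (g + 1) := by
      rw [Nat.factorial_succ]
      have h3 : (2 * g + 3) * (2 * g + 2) * (2 * g + 1).choose g < (2 * g + 3) * (2 * g + 2) * g ! :=
        Nat.mul_lt_mul_of_pos_left ih (by positivity)
      have h4 : (2 * g + 3) * (2 * g + 2) * g ! ≤ (g + 1) * g ! * (g + 2) * (g + 1) := by
        have h7 : (2 * g + 3) * 2 ≤ (g + 1) * (g + 2) := by nlinarith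
        have h5 : (2 * g + 3) * (2 * g + 2) ≤ (g + 1) * (g + 2) * (g + 1) := by
          have h8 : (2 * g + 3) * (2 * g + 2) = (2 * g + 3) * 2 * (g + 1) := by ring
          rw [h8]
          exact Nat.mul_le_mul_right _ h7
        calc (2 * g + 3) * (2 * g + 2) * g ! ≤ (g + 1) * (g + 2) * (g + 1) * g ! := Nat.mul_le_mul_right _ h5
          _ = _ := by ring
      omega
    rw [← h1] at h2
    have h6 : 0 < (g + 2) * (g + 1) := by positivity
    rw [mul_assoc, mul_assoc] at h2
    exact lt_of_mul_lt_mul_right h2 h6.le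

theorem not_dvd (g : ℕ) (hg : 3 ≤ g) : ¬ g ! ∣ (2 * g + 1).choose g := by
  rcases Nat.lt_or_ge g 8 with h | h
  · interval_cases g <;> decide
  · intro h1
    have h2 := Nat.le_of_dvd (Nat.choose_pos (by omega)) h1
    have h3 := choose_lt g h
    omega

end Groth.Agent.AbVar.K521.FactNum
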