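import Mathlib.Algebra.Group.ForwardDiff
import Mathlib.Tactic.Ring
import Mathlib.Data.Nat.Choose.Sum

/-!
# Additive functions with `χ(u^j) = j^g χ(u)`
-/

set_option autoImplicit false
universe v

open Finset Nat

namespace Groth.Agent.AbVar.K521.FinDiff

theorem sum_eq (g : ℕ) : ∑ j ∈ range (g + 1), ((-1 : ℤ) ^ j * (g.choose j : ℤ)) * (j : ℤ) ^ g = (-1) ^ g * (g ! : ℤ) := by
  have h := congrFun (fwdDiff_iter_eq_factorial (R := ℤ) (n := g)) (0 : ℤ)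
  rw [fwdDiff_iter_eq_sum_shift] at h
  have h2 : ∀ k ∈ range (g + 1), (((-1 : ℤ) ^ (g - k) * (g.choose k : ℤ)) • ((0 : ℤ) + k • (1 : ℤ)) ^ g) =
      (-1) ^ g * (((-1 : ℤ) ^ k * (g.choose k : ℤ)) * (k : ℤ) ^ g) := by
    intro k hk
    have hk' := Finset.mem_range.mp hk
    have h3 : (-1 : ℤ) ^ (g - k) = (-1) ^ g * (-1) ^ k := by
      have h4 : (-1 : ℤ) ^ g = (-1) ^ (g - k) * (-1) ^ k := by rw [← pow_add]; congr 1; omega
      rw [h4, mul_assoc, ← pow_add, ← two_mul, pow_mul]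
      norm_num
    rw [h3, smul_eq_mul, zero_add, nsmul_one]
    ring
  rw [Finset.sum_congr rfl h2, ← Finset.mul_sum] at h
  have h5 := congrArg (fun t => (-1 : ℤ) ^ g * t) h
  simp only [← mul_assoc, ← pow_add] at h5
  rw [← two_mul g, pow_mul] at h5
  norm_num at h5
  simpa [mul_assoc] using h5

/-- If `χ(u^j) = j^g χ(u)` for all `j`, then `χ((1 - u)^g) = (-1)^g g! χ(u)`. -/
theorem chi_eq {K : Type v} [CommRing K] (χ : K →+ ℤ) (u : K) (g : ℕ)
    (h : ∀ j : ℕ, χ (u ^ j) = (j : ℤ) ^ g * χ u) : χ ((1 - u) ^ g) = (-1) ^ g * (g ! : ℤ) * χ u := by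
  have h1 : (1 - u) ^ g = ∑ j ∈ range (g + 1), ((-1 : ℤ) ^ j * (g.choose j : ℤ)) • u ^ j := by
    rw [sub_eq_neg_add, add_pow]
    refine Finset.sum_congr rfl fun j _ => ?_
    rw [zsmul_eq_mul, one_pow, mul_one, neg_pow]
    push_cast
    ring
  rw [h1, map_sum, ← sum_eq, Finset.sum_mul]
  refine Finset.sum_congr rfl fun j _ => ?_
  rw [map_zsmul, h, smul_eq_mul]
  ring

end Groth.Agent.AbVar.K521.FinDiff
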