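import Groth.Agent.Krr.H491.KQ
import Groth.Agent.Krr.H491.Todd
import Groth.Agent.Krr.H463.CondHRR

/-!
# Riemann-Roch with trivial tangent element

If `ch(f x) = f_G (td(g) ch(x))`, `f_G` of graded degree `-g`, with values in a ring whose `γ`-filtration vanishes in
degree one, then `ε(f(ψ^j x)) = j^g ε(f x)`.
-/

set_option autoImplicit false
universe v

open LambdaRing KGr
open scoped TensorProduct

namespace Groth.Agent.AbVar.K521.KAdams

open Groth.Agent.Krr.H491.KQ Groth.Agent.Krr.H491.Todd Groth.Agent.Krr.H500.GrK Groth.Agent.Books.Lambda1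
open Groth.Agent.Krr.H493.GrBasis

variable {KX KY : Type v} [CommRing KX] [LambdaOps KX] [CommRing KY] [LambdaOps KY]
  (PX : PosStructure KX) (PY : PosStructure KY)

theorem map_ratsmul {A B : Type*} [AddCommGroup A] [Module ℚ A] [AddCommGroup B] [Module ℚ B] (f : A →+ B)
    (q : ℚ) (a : A) : f (q • a) = q • f a := map_rat_smul f q a

/-- `f_G` vanishes in degrees different from `g`. -/
theorem fG_eq_zero (hY : gammaFiltration PY (0 + 1) = ⊥) (g : ℕ) {f : KX →+ KY} {fG : Gr PX →+ Gr PY}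
    (hG : IsGrPush PX PY f (-(g : ℤ)) fG) {m : ℕ} (hm : m ≠ g) {z : Gr PX} (hz : z ∈ HomG PX m) : fG z = 0 := by
  refine HomG_induction PX (motive := fun z => fG z = 0) (map_zero _) ?_ ?_ ?_ hz
  · intro a b ha hb
    rw [map_add, ha, hb, add_zero]
  · intro q a ha
    rw [map_ratsmul, ha, smul_zero]
  · intro x hx
    rw [hG m x hx]
    rcases Nat.lt_or_ge m g with h | h
    · apply grK_eq_zero_of_mem
      have : ((m : ℤ) + -(g : ℤ) + 1).toNat = 0 := by omega
      rw [this]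
      exact mem_QF_zero _
    · have : (m : ℤ) + -(g : ℤ) = ((m - g : ℕ) : ℤ) := by omega
      rw [this]
      exact grK_eq_zero_of_lt hY (by omega) _

theorem fG_psiG (hK : HasSplitting KX PX) {d : ℕ} (hd : gammaFiltration PX (d + 1) = ⊥)
    (hY : gammaFiltration PY (0 + 1) = ⊥) (g : ℕ) {f : KX →+ KY} {fG : Gr PX →+ Gr PY}
    (hG : IsGrPush PX PY f (-(g : ℤ)) fG) (j : ℕ) (z : Gr PX) :
    fG (psiG PX hK hd j z) = ((j : ℚ) ^ g) • fG z := by
  have h1 : psiG PX hK hd j z = ∑ m ∈ Finset.range (d + 1), ((j : ℚ) ^ m) • proj PX m z := by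
    conv_lhs => rw [eq_sum_proj hd z]
    rw [map_sum]
    refine Finset.sum_congr rfl fun m _ => ?_
    exact psiG_of_mem PX hK hd j m (proj_mem_HomG PX m z)
  rw [h1, map_sum]
  conv_rhs => rw [eq_sum_proj hd z, map_sum, Finset.smul_sum]
  refine Finset.sum_congr rfl fun m _ => ?_
  rw [map_ratsmul]
  by_cases hm : m = g
  · rw [hm]
  · rw [fG_eq_zero PX PY hY g hG hm (proj_mem_HomG PX m z), smul_zero, smul_zero]

theorem nontrivial_gr (hKY : HasSplitting KY PY) (hY : gammaFiltration PY (0 + 1) = ⊥) : Nontrivial (Gr PY) := by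
  by_contra h
  rw [not_nontrivial_iff_subsingleton] at h
  have h1 : (1 : ℚ) ⊗ₜ[ℤ] (1 : KY) = (0 : ℚ ⊗[ℤ] KY) := (PhiA PY hKY hY).injective (Subsingleton.elim _ _)
  obtain ⟨k, hk, h2⟩ := exists_nsmul_of_one_tmul h1
  have h3 := congrArg PY.aug h2
  rw [map_nsmul, map_one, map_zero, nsmul_eq_mul, mul_one] at h3
  have h4 : k = 0 := by exact_mod_cast h3
  omega

theorem main (hK : HasSplitting KX PX) (hKY : HasSplitting KY PY) {d : ℕ} (hd : gammaFiltration PX (d + 1) = ⊥)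
    (hY : gammaFiltration PY (0 + 1) = ⊥) (g : ℕ) {f : KX →+ KY} {fG : Gr PX →+ Gr PY}
    (hG : IsGrPush PX PY f (-(g : ℤ)) fG)
    (hRR : ∀ x : KX, chK PY 0 (f x) = fG (tdK PX d (g : KX) * chK PX d x)) (j : ℕ) (x : KX) :
    PY.aug (f (adams PX j x)) = (j : ℤ) ^ g * PY.aug (f x) := by
  have h1 : ∀ x : KX, chK PY 0 (f x) = fG (chK PX d x) := by
    intro x
    rw [hRR, tdK_natCast PX hK hd, one_mul]
  have h2 := h1 (adams PX j x)
  rw [← psiG_chK PX hK hd, fG_psiG PX PY hK hd hY g hG, ← h1, Groth.Agent.Krr.H463.CondHRR.chK_zero,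
    Groth.Agent.Krr.H463.CondHRR.chK_zero] at h2
  have h4 := h2.trans (Algebra.smul_def (R := ℚ) (A := Gr PY) ((j : ℚ) ^ g) _)
  rw [← map_mul] at h4
  have := nontrivial_gr PY hKY hY
  have h3 := (algebraMap ℚ (Gr PY)).injective h4
  exact_mod_cast h3

end Groth.Agent.AbVar.K521.KAdams
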