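import Groth.Agent.Krr.H460.KPn
import Groth.Agent.Krr.H463.SpecField

/-!
# The square of the degree

Abstract argument on `K(P^n_k)`: if `i^* i_* 1 = N h^g` in `K(X)`, `n = 2 g`, `h^(g + 1) = 0`, then the degree
`D = χ(h^g)` satisfies `D * D = N * D`.
-/

set_option autoImplicit false
universe v w w' u

open CategoryTheory CategoryTheory.Limits AlgebraicGeometry Finset

namespace Groth.Agent.AbVar.K521.KFin

open Groth.Agent.Krr.H482.PullLambda Groth.Agent.Krr.H460.KPn Groth.Agent.Krr.H463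

variable (k : Type u) [Field k]

/-- `K(Spec k) = ℤ`. -/
theorem eq_aug {KY : Type w} [CommRing KY] [LambdaRing.LambdaOps KY] {PY : LambdaRing.PosStructure KY}
    {φY : SGA6.Kvb (Spec (CommRingCat.of k)) →+ KY} (hKY : KRR.IsModel (Spec (CommRingCat.of k)) KY PY φY)
    (y : KY) : y = (PY.aug y : KY) := by
  refine model_induction hKY (C := fun y => y = (PY.aug y : KY)) (fun m E _ hE => ?_) (fun a b ha hb => ?_) y
  · obtain ⟨m', hm', ⟨e⟩⟩ := SpecField.exists_rank k (isFinLocFree_of_rank hE)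
    rw [hKY.aug_cl m' E hm']
    have h := Sga67.PushTwist.c_freeMod (S := Spec (CommRingCat.of k)) m'
    change KRR.cl _ (FlatMod.freeMod _ m') = m' • KRR.cl _ (Coh.structureModule _) at h
    rw [cl_iso e (isFinLocFree_of_rank hE), h, map_nsmul, hKY.map_one, nsmul_one]
    simp
  · rw [map_sub, Int.cast_sub, ← ha, ← hb]

variable {n : ℕ} {X : Scheme.{u}} {i : X ⟶ KRR.PY n (Spec (CommRingCat.of k))}
  {KX : Type v} [CommRing KX] [LambdaRing.LambdaOps KX] {PX : LambdaRing.PosStructure KX} {φX : SGA6.Kvb X →+ KX}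
  (hKX : KRR.IsModel X KX PX φX)
  {KP : Type w'} [CommRing KP] {φP : SGA6.Kvb (KRR.PY n (Spec (CommRingCat.of k))) →+ KP}
  [LambdaRing.LambdaOps KP] {PP : LambdaRing.PosStructure KP}
  (hKP : KRR.IsModel (KRR.PY n (Spec (CommRingCat.of k))) KP PP φP)
  {KY : Type w} [CommRing KY] {φY : SGA6.Kvb (Spec (CommRingCat.of k)) →+ KY}
  [LambdaRing.LambdaOps KY] {PY : LambdaRing.PosStructure KY}
  (hKY : KRR.IsModel (Spec (CommRingCat.of k)) KY PY φY)
  {q : KY →+ KP} (hq : KRR.IsPull (KRR.pr n (Spec (CommRingCat.of k))) φY φP q)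
  {b : KP →+ KY} (hb : KRR.IsPushPr n (Spec (CommRingCat.of k)) φP φY b)
  {gi : KP →+ KX} (hgi : KRR.IsPull i φP φX gi)
  (a : KX →+ KP) (hproj : ∀ (x : KX) (y : KP), a (x * gi y) = a x * y)

include hKX hKP hKY hq hb hgi hproj in
theorem key {g N : ℕ} (hn : n = g + g) {h : KX} (hh : gi (hyp φP) = h) (hnil : h ^ (g + 1) = 0)
    (hself : gi (a 1) = (N : KX) * h ^ g) :
    PY.aug (b (a (h ^ g))) * PY.aug (b (a (h ^ g))) = N * PY.aug (b (a (h ^ g))) := by
  let G : KP →+* KX := pullRingHom hKX hKP hgi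
  let Q : KY →+* KP := pullRingHom hKP hKY hq
  obtain ⟨y, hy, -⟩ := existsUnique_hyp hKP hKY hq (a 1)
  let z : ℕ → KY := fun j => if hj : j < n + 1 then y ⟨j, hj⟩ else 0
  have hz : a 1 = ∑ j ∈ range (n + 1), q (z j) * hyp φP ^ j := by
    rw [hy, Finset.sum_range]
    refine Finset.sum_congr rfl fun j _ => ?_
    change _ = q (if hj : (j : ℕ) < n + 1 then y ⟨j, hj⟩ else 0) * _
    rw [dif_pos j.2]
  have hpow : ∀ m : ℕ, gi (hyp φP ^ m) = h ^ m := fun m => by
    have := map_pow G (hyp φP) m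
    change gi (hyp φP ^ m) = gi (hyp φP) ^ m at this
    rw [this, hh]
  have hnil' : ∀ m : ℕ, g < m → h ^ m = 0 := fun m hm => pow_eq_zero_of_le hm hnil
  have hpush : ∀ m : ℕ, m ≤ n → b (a (h ^ m)) = ∑ j ∈ range (n + 1 - m), z j := by
    intro m hm
    have h1 : a (h ^ m) = a 1 * hyp φP ^ m := by
      rw [← hproj, hpow, one_mul]
    rw [h1, hz, Finset.sum_mul, map_sum]
    have h2 : ∑ j ∈ range (n + 1 - m), z j = ∑ j ∈ range (n + 1 - m), b (q (z j) * hyp φP ^ j * hyp φP ^ m) := by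
      refine Finset.sum_congr rfl fun j hj => ?_
      have hj' := Finset.mem_range.mp hj
      rw [mul_assoc, ← pow_add]
      exact (push_q_mul_hyp_pow hKP hKY hq hb (z j) (j + m) (by omega)).symm
    rw [h2]
    symm
    apply Finset.sum_subset
    · intro j hj
      have := Finset.mem_range.mp hj
      exact Finset.mem_range.mpr (by omega)
    · intro j hj hj2
      have h3 : n + 1 ≤ j + m := by
        by_contra h
        exact hj2 (Finset.mem_range.mpr (by omega))
      rw [mul_assoc, ← pow_add, pow_eq_zero_of_le h3 (hyp_pow_eq_zero hKP), mul_zero, map_zero]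
  have hS : ∀ t : ℕ, t ≤ g → ∑ j ∈ range t, z j = 0 := by
    intro t ht
    rcases Nat.eq_zero_or_pos t with h0 | h0
    · subst h0
      simp
    · have h1 := hpush (n + 1 - t) (by omega)
      rw [hnil' _ (by omega), map_zero, map_zero, show n + 1 - (n + 1 - t) = t by omega] at h1
      exact h1.symm
  have hz0 : ∀ j : ℕ, j < g → z j = 0 := by
    intro j hj
    have h1 := hS (j + 1) (by omega)
    rw [Finset.sum_range_succ, hS j (by omega), zero_add] at h1
    exact h1
  have hD : b (a (h ^ g)) = z g := by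
    rw [hpush g (by omega), show n + 1 - g = g + 1 by omega, Finset.sum_range_succ, hS g le_rfl, zero_add]
  have hint : z g = ((PY.aug (b (a (h ^ g))) : ℤ) : KY) := by
    rw [hD]
    exact eq_aug k hKY _
  have hGQ : gi (q (z g)) = ((PY.aug (b (a (h ^ g))) : ℤ) : KX) := by
    rw [hint]
    change G (Q _) = _
    rw [map_intCast, map_intCast]
  have hgi1 : gi (a 1) = ((PY.aug (b (a (h ^ g))) : ℤ) : KX) * h ^ g := by
    rw [hz, map_sum, Finset.sum_eq_single g]
    · have := map_mul G (q (z g)) (hyp φP ^ g)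
      change gi (q (z g) * hyp φP ^ g) = gi (q (z g)) * gi (hyp φP ^ g) at this
      rw [this, hGQ, hpow]
    · intro j _ hjg
      rcases Nat.lt_or_ge j g with hj | hj
      · rw [hz0 j hj, map_zero, zero_mul, map_zero]
      · have := map_mul G (q (z j)) (hyp φP ^ j)
        change gi (q (z j) * hyp φP ^ j) = gi (q (z j)) * gi (hyp φP ^ j) at this
        rw [this, hpow, hnil' j (by omega), mul_zero]
    · intro h'
      exact absurd (Finset.mem_range.mpr (by omega)) h'
  rw [hgi1] at hself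
  have h2 := congrArg (fun t => PY.aug (b (a t))) hself
  have h3 : ∀ (m : ℤ) (t : KX), PY.aug (b (a ((m : KX) * t))) = m * PY.aug (b (a t)) := by
    intro m t
    rw [← zsmul_eq_mul, map_zsmul, map_zsmul, map_zsmul, smul_eq_mul]
  have h4 : PY.aug (b (a ((N : KX) * h ^ g))) = (N : ℤ) * PY.aug (b (a (h ^ g))) := by
    have := h3 (N : ℤ) (h ^ g)
    rwa [Int.cast_natCast] at this
  change PY.aug (b (a (((PY.aug (b (a (h ^ g))) : ℤ) : KX) * h ^ g))) = PY.aug (b (a ((N : KX) * h ^ g))) at h2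
  rw [h3, h4] at h2
  exact h2

end Groth.Agent.AbVar.K521.KFin
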