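import Groth.Agent.AbVar.K521.AvEmb
import Groth.Agent.AbVar.K521.KFin
import Groth.Agent.AbVar.K521.KAdams
import Groth.Agent.AbVar.K521.FinDiff
import Groth.Agent.AbVar.K521.FactNum
import Groth.Agent.S3796
import Groth.Agent.S3798
import Groth.Agent.S3747
import Groth.Agent.S3769
import Groth.Agent.S3763
import Groth.Agent.S3785
import Groth.Agent.Krr.H472.SelfInt
import Groth.Agent.Krr.H452.PnConn
import Groth.Agent.Dual.H366.LciImm
import Groth.Agent.Dual.H375.LciLocus
import Groth.Agent.Sga5.ProjSmooth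

/-!
# Abelian varieties of dimension at least three do not embed in projective `2g`-space
-/

set_option autoImplicit false
universe v u

open CategoryTheory CategoryTheory.Limits MonoidalCategory CartesianMonoidalCategory MonObj AlgebraicGeometry
open Nat

namespace Groth.Agent.AbVar.K521.EmbHigh

open Groth.Agent.Krr.H482.PullLambda Groth.Agent.Krr.H460.KPn Groth.Agent.Krr.H463

variable {k : Type u} [Field k] (X : Over (Spec (CommRingCat.of k))) [GrpObj X] [IsProper X.hom]
  [GeometricallyIntegral X.hom] (g : ℕ) (hg : topologicalKrullDim ↥X.left = g) {n : ℕ}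
  (i : X.left ⟶ KRR.PY n (Spec (CommRingCat.of k))) [IsClosedImmersion i]
  (hi : i ≫ KRR.pr n (Spec (CommRingCat.of k)) = X.hom)

omit [IsProper X.hom] [GeometricallyIntegral X.hom] in
theorem smooth_pr (n : ℕ) (Y : Scheme.{u}) : Smooth (KRR.pr n Y) := by
  have h := Groth.Agent.Sga5.ProjSmooth.smooth_toSpec n (ULift.{u} ℤ)
  have h2 : Smooth (CohB1.ProjSpace.toSpec.{u} n (ULift.{u} ℤ)) := SmoothOfRelativeDimension.smooth n _
  exact MorphismProperty.pullback_snd (P := @Smooth) _ _ h2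

omit [IsProper X.hom] [GeometricallyIntegral X.hom] in
include hi in
theorem isRegular [Smooth X.hom] : Mor2.IsRegularClosedImmersion i := by
  have := EulerX.isNoetherian_PY n (Spec (CommRingCat.of k))
  have := smooth_pr n (Spec (CommRingCat.of k))
  refine Groth.Agent.Dual.H366.LciImm.isRegularClosedImmersion i (KRR.pr n (Spec (CommRingCat.of k))) ?_
  rw [hi]
  exact Groth.Agent.Dual.H375.LciLocus.isLCIMor_of_smooth (f := X.hom)

include hg hi in
theorem ne (h3 : 3 ≤ g) (hn : n = g + g) : False := by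
  have hXi := AvEmb.isIntegral X
  have hXn := AvEmb.isNoetherian X
  have hXs := AvEmb.smooth X
  let _ : X.left.Over (Spec (CommRingCat.of k)) := ⟨X.hom⟩
  have _ : IsProper (X.left ↘ Spec (CommRingCat.of k)) := inferInstanceAs (IsProper X.hom)
  have hS : ConnectedSpace ↥(Spec (CommRingCat.of k)) := inferInstanceAs (ConnectedSpace (PrimeSpectrum k))
  have hPn := EulerX.isNoetherian_PY n (Spec (CommRingCat.of k))
  have hreg := isRegular X i hi
  obtain ⟨KX, _, _, PX, φX, hKX⟩ := S3796.result X.left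
  obtain ⟨KP, _, _, PP, φP, hKP⟩ := S3796.result (KRR.PY n (Spec (CommRingCat.of k)))
  obtain ⟨KY, _, _, PY, φY, hKY⟩ := S3796.result (Spec (CommRingCat.of k))
  obtain ⟨r, hr, hC, h1, h2, hT⟩ := AvEmb.rel X g hg i hi hKX
  obtain ⟨q, hq⟩ := exists_isPull (KRR.pr n (Spec (CommRingCat.of k))) hKY.bijective φP
  obtain ⟨gi, hgi⟩ := exists_isPull i hKP.bijective φX
  have hYe : KRR.HasEnoughLocFree (KRR.PY n (Spec (CommRingCat.of k))) :=
    EulerX.hasEnoughLocFree_PY n (Spec (CommRingCat.of k))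
  have hXe : KRR.HasEnoughLocFree X.left :=
    Krr.H473.QProj.hasEnoughLocFree_of_isAmple (AvEmb.isAmple_tw i)
  obtain ⟨a, ha, -⟩ := Krr.H498.PushCl.existsUnique_isPushCl i hYe φX φP
    (Krr.H498.PushCl.goodPush_of_regular i hYe hreg) hKX.bijective
  obtain ⟨b, hb, -⟩ := S3798.result n (Spec (CommRingCat.of k)) KP PP φP hKP KY PY φY hKY
  have hproj : ∀ (x : KX) (y : KP), a (x * gi y) = a x * y := fun x y =>
    S3747.result i hreg hYe KX PX φX hKX KP PP φP hKP gi hgi a ha x y
  -- self-intersection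
  have hsq : IsPullback (𝟙 X.left) (𝟙 X.left) i i := IsKernelPair.id_of_mono i
  have hu := AvEmb.isLine i hKX
  have hnil := AvEmb.nil X g hg i hKX
  have hself : gi (a 1) = ((n + 1).choose g : KX) * (1 - φX (KRR.cl X.left (AvEmb.tw i (-1)))) ^ g := by
    have h := S3769.result (Spec (CommRingCat.of k)) (KRR.pr n (Spec (CommRingCat.of k)))
      ⟨n, 𝟙 _, inferInstance, Category.id_comp _⟩ X.hom ⟨n, i, inferInstance, hi⟩ i hreg r hC i
      (𝟙 X.left) (𝟙 X.left) hsq (Krr.H472.SelfInt.isRegularClosedImmersion_id X.left) 0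
      (Krr.H472.SelfInt.isFinLocFreeOfRank_conormal_id X.left) KX PX φX hKX KP PP φP hKP KX PX φX hKX KX PX φX hKX
      gi hgi (AddMonoidHom.id KX) Krr.H472.SelfInt.isPull_id_id a ha (AddMonoidHom.id KX)
      (Krr.H472.SelfInt.isPushCl_id hXe hKX) 1
    rw [Krr.H472.SelfInt.cl_conormal_id, map_zero, sub_zero] at h
    rw [h]
    change KRR.lamAlt PX (φX (KRR.cl X.left (Omega.conormal i))) * 1 = _
    rw [_root_.mul_one]
    refine KLam.lamAlt_eq PX hn.symm hu hnil h1 ?_ (fun j hj => h2 j (by omega))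
    rw [hKX.aug_cl r _ hC]
    have : r = g := by omega
    rw [this]
  have hhyp : gi (hyp φP) = 1 - φX (KRR.cl X.left (AvEmb.tw i (-1))) := by
    have h4 : gi (lin φP (-1)) = φX (KRR.cl X.left (AvEmb.tw i (-1))) := hgi _ (isFinLocFree_twistOver (-1))
    have h5 : gi 1 = 1 := (pullRingHom hKX hKP hgi).map_one
    rw [hyp, map_sub, h4, h5]
  have hkey := KFin.key k hKX hKP hKY hq hb hgi a hproj hn hhyp hnil hself
  -- the degree
  let χ : KX →+ ℤ := (PY.aug : KY →+ ℤ).comp (b.comp a)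
  have hχ : χ = KDeg.chiK k hKX := by
    refine model_hom_ext hKX fun m E _ hE => ?_
    rw [KDeg.chiK_cl k hKX (isFinLocFree_of_rank hE)]
    exact EulerX.aug_push_push k n i hreg hi φX φP PY φY hKY a ha b hb (isFinLocFree_of_rank hE)
  have hD : 0 < χ ((1 - φX (KRR.cl X.left (AvEmb.tw i (-1)))) ^ g) := by
    rw [hχ]
    exact KDeg.deg_pos k hKX g hg (AvEmb.isAmple_tw i) (AvEmb.isFinLocFree_tw' i (-1)) (AvEmb.nonempty_tensor i)
  have hDN : χ ((1 - φX (KRR.cl X.left (AvEmb.tw i (-1)))) ^ g) = ((n + 1).choose g : ℤ) :=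
    mul_right_cancel₀ hD.ne' hkey
  -- Riemann-Roch
  obtain ⟨fG, hG, hRR⟩ := S3763.result (Spec (CommRingCat.of k)) n (𝟙 (Spec (CommRingCat.of k)))
      (EulerX.isQProjOver_id (Spec (CommRingCat.of k)) 0) 0
      (SpecField.topologicalKrullDim_spec k) i hreg g hg.le r hC
      KX PX φX hKX KP PP φP hKP KY PY φY hKY a ha b hb
  have hRR' : ∀ x : KX, KGr.chK PY 0 ((b.comp a) x) = fG (KGr.tdK PX g (g : KX) * KGr.chK PX g x) := by
    intro x
    have h6 := hRR x
    rw [show ((n + 1 : ℕ) : KX) * φX (KRR.cl X.left ((Scheme.Modules.pullback i).obj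
      (Twist.twistOver n (Spec (CommRingCat.of k)) 1))) - 1 -
      φX (KRR.cl X.left ((DCoh.sheafHom (Omega.conormal i)).obj (Coh.structureModule X.left))) = (g : KX) from hT] at h6
    exact h6
  have hG' : KGr.IsGrPush PX PY (b.comp a) (-(g : ℤ)) fG := by
    have : (r : ℤ) - n = -(g : ℤ) := by omega
    rwa [this] at hG
  have hfilX := S3744.result X.left (AvEmb.tw i 1) (AvEmb.isAmple_tw i) g hg.le KX PX φX hKX
  have hfilY := S3744.result (Spec (CommRingCat.of k)) _ (Groth.Agent.Ega2.Weight.isAmple_structureModule _) 0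
    (SpecField.topologicalKrullDim_spec k) KY PY φY hKY
  have hadams := KAdams.main PX PY (S3785.result X.left KX PX φX hKX) (S3785.result _ KY PY φY hKY) hfilX hfilY g
    hG' hRR'
  have hpow : ∀ j : ℕ, χ (φX (KRR.cl X.left (AvEmb.tw i (-1))) ^ j) =
      (j : ℤ) ^ g * χ (φX (KRR.cl X.left (AvEmb.tw i (-1)))) := by
    intro j
    rcases Nat.eq_zero_or_pos j with h0 | h0
    · subst h0
      have h7 := hadams 2 1
      rw [Groth.Agent.Books.Lambda1.adams_line PX 1 (Groth.Agent.Books.Lambda1.isLine_one PX), one_pow] at h7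
      have h8 : χ 1 = ((2 : ℕ) : ℤ) ^ g * χ 1 := h7
      have h9 : (2 : ℤ) ≤ 2 ^ g := by
        calc (2 : ℤ) = 2 ^ 1 := (pow_one 2).symm
          _ ≤ 2 ^ g := pow_le_pow_right₀ (by norm_num) (by omega)
      have h10 : χ 1 = 0 := by
        push_cast at h8
        have h11 : ((2 : ℤ) ^ g - 1) * χ 1 = 0 := by linarith
        rcases mul_eq_zero.mp h11 with h | h
        · omega
        · exact h
      rw [pow_zero, h10, Nat.cast_zero, zero_pow (by omega), zero_mul]
    · have h7 := hadams j (φX (KRR.cl X.left (AvEmb.tw i (-1))))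
      rw [Groth.Agent.Books.Lambda1.adams_line PX _ hu] at h7
      exact h7
  have hdiv := FinDiff.chi_eq χ _ g hpow
  rw [hDN] at hdiv
  have hdvd : (g ! : ℤ) ∣ ((n + 1).choose g : ℤ) := by
    rw [hdiv, mul_comm ((-1 : ℤ) ^ g), _root_.mul_assoc]
    exact dvd_mul_right _ _
  have hdvd' : g ! ∣ (n + 1).choose g := by exact_mod_cast hdvd
  refine FactNum.not_dvd g h3 ?_
  have : 2 * g + 1 = n + 1 := by omega
  rw [this]
  exact hdvd'

end Groth.Agent.AbVar.K521.EmbHigh
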