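import Groth.Agent.AbVar.K521.AvEmb
import Groth.Agent.S3796

/-!
# Abelian varieties do not embed in projective `(2g - 1)`-space
-/

set_option autoImplicit false
universe v u

open CategoryTheory CategoryTheory.Limits MonoidalCategory CartesianMonoidalCategory MonObj AlgebraicGeometry

namespace Groth.Agent.AbVar.K521.EmbLow

variable {k : Type u} [Field k] (X : Over (Spec (CommRingCat.of k))) [GrpObj X] [IsProper X.hom]
  [GeometricallyIntegral X.hom] (g : ℕ) (hg : topologicalKrullDim ↥X.left = g) {n : ℕ}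
  (i : X.left ⟶ KRR.PY n (Spec (CommRingCat.of k))) [IsClosedImmersion i]
  (hi : i ≫ KRR.pr n (Spec (CommRingCat.of k)) = X.hom)

include hg hi in
/-- An abelian variety of dimension `g` closed in projective `n`-space: `2 g ≤ n`. -/
theorem le : 2 * g ≤ n := by
  by_contra hn
  have := AvEmb.isIntegral X
  have := AvEmb.isNoetherian X
  letI : X.left.Over (Spec (CommRingCat.of k)) := ⟨X.hom⟩
  haveI : IsProper (X.left ↘ Spec (CommRingCat.of k)) := inferInstanceAs (IsProper X.hom)
  obtain ⟨KX, _, _, PX, φX, hKX⟩ := S3796.result X.left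
  obtain ⟨r, hr, hC, h1, h2, h3⟩ := AvEmb.rel X g hg i hi hKX
  have h4 := KLam.choose_mul_eq_zero PX hr (AvEmb.isLine i hKX) (AvEmb.nil X g hg i hKX) (by omega) h1 h2
  have h5 := congrArg (KDeg.chiK k hKX) h4
  rw [← nsmul_eq_mul, map_nsmul, map_zero] at h5
  have h6 := KDeg.deg_pos k hKX g hg (AvEmb.isAmple_tw i) (AvEmb.isFinLocFree_tw' i (-1)) (AvEmb.nonempty_tensor i)
  have h7 : 0 < (n + 1).choose g := Nat.choose_pos (by omega)
  rw [nsmul_eq_mul] at h5
  rcases mul_eq_zero.mp h5 with h | h
  · have : (n + 1).choose g = 0 := by exact_mod_cast h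
    omega
  · omega

end Groth.Agent.AbVar.K521.EmbLow
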