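import Groth.Agent.AbVar.K509.Chow
import Groth.Agent.SGA3x.K12.ConstPts
import Groth.Agent.Sga3B.RepDescent9
import Groth.Prelude.Def_AutFam

/-!
# The functor of homomorphisms between abelian varieties, constant case

`X` proper geometrically integral, `Y` arbitrary group schemes over a field `k`.

* `exists_near`: two families of homomorphisms `X ⟶ Y` which agree at one geometric point agree on a neighbourhood;
* `exists_representsHom`: if all families over algebraically closed fields come from homomorphisms over `k`, the functor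
  of homomorphisms is the constant scheme attached to the set of homomorphisms `X ⟶ Y`.
-/

set_option autoImplicit false
universe u
open CategoryTheory MonoidalCategory CartesianMonoidalCategory MonObj GrpObj AlgebraicGeometry Limits

namespace Groth.Agent.AbVar.K521.HomConst

open TwC K12.ConstPts

variable {k : Type u} [Field k]

section fam

variable {S : Scheme.{u}} {X Y T : Over S} [GrpObj X] [GrpObj Y] {φ ψ : X ⊗ T ⟶ Y}

theorem lift_one_comp (hφ : AutFam.IsHomFamily X Y φ) {R : Over S} (t : R ⟶ T) : lift (1 : R ⟶ X) t ≫ φ = 1 := by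
  have h := hφ R 1 1 t
  rw [_root_.mul_one] at h
  exact left_eq_mul.mp h

theorem isHomFamily_fst (f : X ⟶ Y) [IsMonHom f] : AutFam.IsHomFamily X Y (fst X T ≫ f) := by
  intro R g₁ g₂ t
  rw [lift_fst_assoc, lift_fst_assoc, lift_fst_assoc, MonObj.mul_comp]

end fam

/-- Two families of homomorphisms which agree at one geometric point agree on a neighbourhood. -/
theorem exists_near {X Y T P : Over (Spec (CommRingCat.of k))} [GrpObj X] [IsProper X.hom]
    [GeometricallyIntegral X.hom] [GrpObj Y] {φ ψ : X ⊗ T ⟶ Y} (hφ : AutFam.IsHomFamily X Y φ)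
    (hψ : AutFam.IsHomFamily X Y ψ) (x : P ⟶ T) (p : P.left) (h : (X ◁ x) ≫ φ = (X ◁ x) ≫ ψ) :
    ∃ U : T.left.Opens, x.left p ∈ U ∧ (X ◁ opnι U) ≫ φ = (X ◁ opnι U) ≫ ψ := by
  have hsub : Subsingleton (Spec (CommRingCat.of k)) := inferInstanceAs (Subsingleton (PrimeSpectrum k))
  let δ : X ⊗ T ⟶ Y := φ * ψ⁻¹
  have h1 : (X ◁ x) ≫ δ = 1 := by
    rw [MonObj.comp_mul, GrpObj.comp_inv, h, mul_inv_cancel]
  have hpb : IsPullback (X ◁ x).left (snd X P).left (snd X T).left x.left :=
    (K509.Rigid.isPullback_whiskerLeft X x).map (Over.forget _)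
  have hval : ∀ z : (X ⊗ T).left, (snd X T).left z = x.left p →
      δ.left z = (η[Y] : 𝟙_ (Over (Spec (CommRingCat.of k))) ⟶ Y).left (IsLocalRing.closedPoint k) := by
    intro z hz
    obtain ⟨w, hw, -⟩ := Scheme.exists_preimage_of_isPullback hpb z p hz
    rw [← hw, ← Scheme.Hom.comp_apply, ← Over.comp_left, h1]
    have h3 : (1 : X ⊗ P ⟶ Y) = toUnit _ ≫ η[Y] := rfl
    rw [h3, Over.comp_left, Scheme.Hom.comp_apply]
    congr 1
    exact hsub.elim _ _
  obtain ⟨U, hU, hU'⟩ := K509.Rigid.exists_nhd X T Y δ η[X] (x.left p) (fun z z' hz hz' => by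
    rw [hval z hz, hval z' hz'])
  refine ⟨U, hU, ?_⟩
  have h2 : lift (toUnit _ ≫ η[X]) (snd X T) ≫ δ = 1 := by
    have e : (toUnit (X ⊗ T) ≫ η[X] : X ⊗ T ⟶ X) = 1 := rfl
    rw [e, MonObj.comp_mul, GrpObj.comp_inv, lift_one_comp hφ, lift_one_comp hψ, _root_.inv_one,
      _root_.mul_one]
  rw [h2, MonObj.comp_one, MonObj.comp_mul, GrpObj.comp_inv] at hU'
  exact mul_inv_eq_one.mp hU'

/-- Homomorphisms are determined by their values on `X ⊗ W`, `W` nonempty. -/
theorem eq_of_forall {X Y : Over (Spec (CommRingCat.of k))} (f g : X ⟶ Y) (W : Over (Spec (CommRingCat.of k)))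
    (hW : Nonempty W.left)
    (h : ∀ (T' : Over (Spec (CommRingCat.of k))) (_ : T' ⟶ W) (q : T' ⟶ X), q ≫ f = q ≫ g) : f = g := by
  obtain ⟨w⟩ := hW
  let P : Over (Spec (CommRingCat.of k)) := Over.mk (W.left.fromSpecResidueField w ≫ W.hom)
  let b : P ⟶ W := Over.homMk (W.left.fromSpecResidueField w) rfl
  have i1 : Nonempty P.left := inferInstanceAs (Nonempty (PrimeSpectrum (W.left.residueField w)))
  have i2 : IsAffine P.left := inferInstanceAs (IsAffine (Spec _))
  have i3 : QuasiCompact P.hom := inferInstance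
  have := h (X ⊗ P) (snd X P ≫ b) (fst X P)
  exact (cancel_epi (fst X P)).mp this

variable (X Y : Over (Spec (CommRingCat.of k))) [GrpObj X] [GrpObj Y]

/-- The set of homomorphisms. -/
abbrev Idx : Type u := {f : X ⟶ Y // IsMonHom f}

theorem exists_univ : ∃ υ : X ⊗ const (Spec (CommRingCat.of k)) (Idx X Y) ⟶ Y,
    ∀ (T : Over (Spec (CommRingCat.of k))) (q : T ⟶ X) (t : T ⟶ const (Spec (CommRingCat.of k)) (Idx X Y))
      (i : Idx X Y), (∀ x, idx t x = i) → lift q t ≫ υ = q ≫ i.1 := by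
  obtain ⟨υ, hυ⟩ := exists_glue (V := Spec (CommRingCat.of k))
    (T := X ⊗ const (Spec (CommRingCat.of k)) (Idx X Y)) (Z := Y)
    (idx (snd _ _)) (isOpen_idx _) (fun i => fst _ _ ≫ i.1)
  refine ⟨υ, fun T q t i hi => ?_⟩
  rw [hυ T (lift q t) i (fun x => by rw [← idx_comp, lift_snd]; exact hi x), lift_fst_assoc]

/-- All families over algebraically closed fields come from `k`. -/
def Split : Prop := ∀ (Ω : Type u) [Field Ω] [IsAlgClosed Ω]
  (x : Spec (CommRingCat.of Ω) ⟶ Spec (CommRingCat.of k)) (φ : X ⊗ Over.mk x ⟶ Y),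
  AutFam.IsHomFamily X Y φ → ∃ f : X ⟶ Y, IsMonHom f ∧ fst X (Over.mk x) ≫ f = φ

variable {X Y}

/-- Families of homomorphisms are locally constant. -/
theorem exists_near_fam [IsProper X.hom] [GeometricallyIntegral X.hom] (hs : Split X Y)
    {T : Over (Spec (CommRingCat.of k))} {χ : X ⊗ T ⟶ Y} (hχ : AutFam.IsHomFamily X Y χ) (x : T.left) :
    ∃ U : T.left.Opens, x ∈ U ∧ ∃ f : Idx X Y, ∀ (R : Over (Spec (CommRingCat.of k))) (q : R ⟶ X) (t : R ⟶ T),
      (∀ y, t.left y ∈ U) → lift q t ≫ χ = q ≫ f.1 := by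
  let Ω := AlgebraicClosure (T.left.residueField x)
  let e : Spec (CommRingCat.of Ω) ⟶ T.left :=
    Spec.map (CommRingCat.ofHom (algebraMap (T.left.residueField x) Ω)) ≫ T.left.fromSpecResidueField x
  let P : Over (Spec (CommRingCat.of k)) := Over.mk (e ≫ T.hom)
  let a : P ⟶ T := Over.homMk e rfl
  obtain ⟨f, hf, hf'⟩ := hs Ω (e ≫ T.hom) ((X ◁ a) ≫ χ) (Groth.Agent.Sga3B.IsoFam.isHomFamily_pull hχ a)
  let p : P.left := (IsLocalRing.closedPoint Ω : PrimeSpectrum Ω)
  obtain ⟨U, hU, hU'⟩ := exists_near (P := P) hχ (isHomFamily_fst (T := T) f) a p (by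
    rw [whiskerLeft_fst_assoc]
    exact hf'.symm)
  have hx : a.left p = x := by
    change e p = x
    rw [Scheme.Hom.comp_apply, Scheme.fromSpecResidueField_apply]
  rw [hx] at hU
  refine ⟨U, hU, ⟨f, hf⟩, fun R q t ht => ?_⟩
  obtain ⟨t', ht'⟩ := exists_lift_opn t U ht
  have h1 : lift q t = lift q t' ≫ (X ◁ opnι U) := by rw [lift_whiskerLeft, ht']
  rw [h1, Category.assoc, hU', whiskerLeft_fst_assoc, lift_fst_assoc]

/-- **The functor of homomorphisms is constant** when all geometric homomorphisms are defined over `k`. -/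
theorem exists_representsHom [IsProper X.hom] [GeometricallyIntegral X.hom] (hs : Split X Y) :
    ∃ υ : X ⊗ const (Spec (CommRingCat.of k)) (Idx X Y) ⟶ Y,
      AutFam.RepresentsHom X Y (const (Spec (CommRingCat.of k)) (Idx X Y)) υ := by
  obtain ⟨υ, hυ⟩ := exists_univ X Y
  refine ⟨υ, ?_, fun T χ hχ => ?_⟩
  · intro R g₁ g₂ t
    refine hom_ext_opens _ _ fun x => ⟨⟨{x' | idx t x' = idx t x}, isOpen_idx t _⟩, rfl, ?_⟩
    set U : R.left.Opens := ⟨{x' | idx t x' = idx t x}, isOpen_idx t _⟩ with hU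
    have h1 : ∀ y, idx (opnι U ≫ t) y = idx t x := by
      intro y
      rw [idx_comp]
      exact y.2
    have h2 : ∀ g : R ⟶ X, opnι U ≫ lift g t ≫ υ = (opnι U ≫ g) ≫ (idx t x).1 := by
      intro g
      rw [← Category.assoc, comp_lift, hυ _ _ _ _ h1]
    have h3 : IsMonHom (idx t x).1 := (idx t x).2
    have h4 := MonObj.mul_comp (opnι U ≫ g₁) (opnι U ≫ g₂) (idx t x).1
    rw [MonObj.comp_mul, h2, h2, h2, MonObj.comp_mul]
    exact h4
  · choose U hU φ hφ using exists_near_fam hs hχ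
    have hloc : ∀ x y : T.left, y ∈ U x → φ y = φ x := by
      intro x y hy
      let W : T.left.Opens := U x ⊓ U y
      have hyW : y ∈ W := ⟨hy, hU y⟩
      refine Subtype.ext (eq_of_forall (φ y).1 (φ x).1 (opn W) ⟨⟨y, hyW⟩⟩ ?_)
      intro T' b q
      rw [← hφ y T' q (b ≫ opnι W) (fun z => (b.left z).2.2), ← hφ x T' q (b ≫ opnι W) (fun z => (b.left z).2.1)]
    obtain ⟨a, ha⟩ := exists_pt (T := T) (fun x => (φ x : Idx X Y)) (by
      intro i
      rw [isOpen_iff_forall_mem_open]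
      rintro x rfl
      exact ⟨U x, fun y hy => hloc x y hy, (U x).2, hU x⟩)
    have hcomp : ∀ (b : T ⟶ const (Spec (CommRingCat.of k)) (Idx X Y)) (T' : Over (Spec (CommRingCat.of k)))
        (q : T' ⟶ X) (t : T' ⟶ T)
        (i : Idx X Y), (∀ x, idx b (t.left x) = i) →
        lift q t ≫ (X ◁ b) ≫ υ = q ≫ i.1 := by
      intro b T' q t i hi
      rw [lift_whiskerLeft_assoc, hυ _ _ _ i (fun x => by rw [idx_comp]; exact hi x)]
    refine ⟨a, ?_, fun b hb => ?_⟩
    · refine hom_ext_opens _ _ fun z => ?_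
      let x : T.left := (snd X T).left z
      let W : (X ⊗ T).left.Opens := (snd X T).left ⁻¹ᵁ (U x)
      refine ⟨W, hU x, ?_⟩
      have h1 : ∀ y, (opnι W ≫ snd X T).left y ∈ U x := fun y => y.2
      have h2 : opnι W = lift (opnι W ≫ fst _ _) (opnι W ≫ snd _ _) := by
        rw [← comp_lift, lift_fst_snd, Category.comp_id]
      rw [h2, hφ x _ _ _ h1, hcomp a _ _ _ (φ x) (fun y => by rw [ha]; exact hloc x _ (h1 y))]
    · refine idx_ext fun x => ?_
      have h1 : idx b x = idx a x := by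
        let W : T.left.Opens := U x ⊓ ⟨{y | idx b y = idx b x}, isOpen_idx b _⟩
        have hxW : x ∈ W := ⟨hU x, rfl⟩
        rw [ha]
        refine Subtype.ext (eq_of_forall _ _ (opn W) ⟨⟨x, hxW⟩⟩ ?_)
        intro T' c q
        have h2 := hcomp b T' q (c ≫ opnι W) (idx b x) (fun z => (c.left z).2.2)
        rw [← h2, hb]
        exact hφ x T' q (c ≫ opnι W) (fun z => (c.left z).2.1)
      exact h1

end Groth.Agent.AbVar.K521.HomConst
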