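import Groth.Agent.AbVar.K521.HomConst
import Groth.Agent.AbVar.K509.ChowHom
import Groth.Agent.Sga7.H738.SpreadMor
import Groth.Agent.Sga3.H767.FamLim
import Groth.Agent.SGA3x.K9.Rigid
import Groth.Agent.SGA3x.K12.CentFam
import Mathlib.AlgebraicGeometry.Group.Abelian

/-!
# Fields of definition of families of homomorphisms of abelian varieties

* `exists_desc_irr`: families of homomorphisms descend along flat quasi-compact surjective `q` with irreducible square;
* `exists_finite_sep`: all homomorphisms over an algebraic closure are defined over one finite separable extension;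
* `exists_split`: over such an extension `Split` holds.
-/

set_option autoImplicit false
universe u
open CategoryTheory MonoidalCategory CartesianMonoidalCategory MonObj GrpObj AlgebraicGeometry Limits

namespace Groth.Agent.AbVar.K521.HomDesc

open Groth.Agent.Sga3B Groth.Agent.Sga3B.BcPts

section flat

variable {S : Scheme.{u}} {A C T T₀ : Over S} (q : T ⟶ T₀) [Flat q.left] [Surjective q.left] [QuasiCompact q.left]

omit [Flat q.left] [Surjective q.left] [QuasiCompact q.left] in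
theorem isPullback_left (A : Over S) : IsPullback (A ◁ q).left (snd A T).left (snd A T₀).left q.left :=
  (K509.Rigid.isPullback_whiskerLeft A q).map (Over.forget _)

include q in
theorem epi_left (A : Over S) : Flat (A ◁ q).left ∧ Surjective (A ◁ q).left ∧ QuasiCompact (A ◁ q).left :=
  ⟨MorphismProperty.of_isPullback (P := @Flat) (isPullback_left q A).flip inferInstance,
    MorphismProperty.of_isPullback (P := @Surjective) (isPullback_left q A).flip inferInstance,
    MorphismProperty.of_isPullback (P := @QuasiCompact) (isPullback_left q A).flip inferInstance⟩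

theorem epi_whisker (A : Over S) : Epi (A ◁ q) := by
  obtain ⟨h1, h2, h3⟩ := epi_left q A
  have : Epi ((Over.forget _).map (A ◁ q)) := inferInstanceAs (Epi (A ◁ q).left)
  exact (Over.forget _).epi_of_epi_map this

theorem exists_desc (φ : A ⊗ T ⟶ C)
    (h : ∀ (Z : Over S) (a b : Z ⟶ T), a ≫ q = b ≫ q → (A ◁ a) ≫ φ = (A ◁ b) ≫ φ) :
    ∃ g : A ⊗ T₀ ⟶ C, (A ◁ q) ≫ g = φ := by
  obtain ⟨hF, hS, hQ⟩ := epi_left q A
  have key : ∀ {Z : Scheme.{u}} (g₁ g₂ : Z ⟶ (A ⊗ T).left),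
      g₁ ≫ (A ◁ q).left = g₂ ≫ (A ◁ q).left → g₁ ≫ φ.left = g₂ ≫ φ.left := by
    intro Z g₁ g₂ hg
    let Z' : Over S := Over.mk (g₁ ≫ (A ⊗ T).hom)
    let G₁ : Z' ⟶ A ⊗ T := Over.homMk g₁ rfl
    let G₂ : Z' ⟶ A ⊗ T := Over.homMk g₂ (by
      have h1 : (A ⊗ T).hom = (A ◁ q).left ≫ (A ⊗ T₀).hom := (Over.w (A ◁ q)).symm
      rw [h1]
      change g₂ ≫ _ = g₁ ≫ (A ⊗ T).hom
      rw [h1, ← Category.assoc, ← Category.assoc, hg])
    have h2 : G₁ ≫ (A ◁ q) = G₂ ≫ (A ◁ q) := Over.OverMorphism.ext hg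
    have h3 : G₁ ≫ fst A T = G₂ ≫ fst A T := by
      have := congrArg (fun z => z ≫ fst A T₀) h2
      simpa using this
    have h4 : (G₁ ≫ snd A T) ≫ q = (G₂ ≫ snd A T) ≫ q := by
      have := congrArg (fun z => z ≫ snd A T₀) h2
      simpa using this
    have h5 : ∀ G : Z' ⟶ A ⊗ T, G = lift (G ≫ fst A T) (𝟙 Z') ≫ (A ◁ (G ≫ snd A T)) := by
      intro G
      rw [lift_whiskerLeft, Category.id_comp]
      apply CartesianMonoidalCategory.hom_ext <;> simp
    have h6 : G₁ ≫ φ = G₂ ≫ φ := by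
      rw [h5 G₁, h5 G₂, Category.assoc, Category.assoc, h _ _ _ h4, h3]
    exact congrArg (fun f => f.left) h6
  let g₀ : (A ⊗ T₀).left ⟶ C.left := EffectiveEpi.desc (A ◁ q).left φ.left (fun g₁ g₂ hg => key g₁ g₂ hg)
  have hg₀ : (A ◁ q).left ≫ g₀ = φ.left := EffectiveEpi.fac _ _ _
  have hw : g₀ ≫ C.hom = (A ⊗ T₀).hom := by
    rw [← cancel_epi (A ◁ q).left, ← Category.assoc, hg₀, Over.w, Over.w]
  refine ⟨Over.homMk g₀ hw, ?_⟩
  ext1
  exact hg₀

theorem isHomFamily_of_pull {X Y : Over S} [GrpObj X] [GrpObj Y] (φ : X ⊗ T₀ ⟶ Y)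
    (h : AutFam.IsHomFamily X Y ((X ◁ q) ≫ φ)) : AutFam.IsHomFamily X Y φ := by
  rw [Groth.Agent.Sga3.H767.FamLim.isHomFamily_iff] at h ⊢
  rw [Groth.Agent.Sga3.H767.FamLim.lhs_whisker, Groth.Agent.Sga3.H767.FamLim.rhs_whisker] at h
  have := epi_whisker q (X ⊗ X)
  exact (cancel_epi _).mp h

end flat

section irr

variable {k : Type u} [Field k] {X Y T T₀ : Over (Spec (CommRingCat.of k))} [GrpObj X] [IsProper X.hom]
  [GeometricallyIntegral X.hom] [GrpObj Y] [IsSeparated Y.hom]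

/-- Families of homomorphisms descend along flat quasi-compact surjective morphisms with irreducible square. -/
theorem exists_desc_irr (q : T ⟶ T₀) [Flat q.left] [Surjective q.left] [QuasiCompact q.left] [Nonempty T.left]
    [IrreducibleSpace ↥(pullback q.left q.left)] (φ : X ⊗ T ⟶ Y) (hφ : AutFam.IsHomFamily X Y φ) :
    ∃ φ₀ : X ⊗ T₀ ⟶ Y, AutFam.IsHomFamily X Y φ₀ ∧ (X ◁ q) ≫ φ₀ = φ := by
  let R : Over (Spec (CommRingCat.of k)) := Over.mk (pullback.fst q.left q.left ≫ T.hom)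
  have hRi : IrreducibleSpace R.left := ‹IrreducibleSpace ↥(pullback q.left q.left)›
  let p₁ : R ⟶ T := Over.homMk (pullback.fst q.left q.left) rfl
  let p₂ : R ⟶ T := Over.homMk (pullback.snd q.left q.left) (by
    change pullback.snd q.left q.left ≫ T.hom = pullback.fst q.left q.left ≫ T.hom
    rw [← Over.w q, ← Category.assoc, ← Category.assoc, pullback.condition])
  let Δ : T ⟶ R := Over.homMk (pullback.lift (𝟙 _) (𝟙 _) rfl) (by
    change pullback.lift (𝟙 _) (𝟙 _) rfl ≫ pullback.fst q.left q.left ≫ T.hom = T.hom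
    rw [← Category.assoc, pullback.lift_fst, Category.id_comp])
  have hΔ₁ : Δ ≫ p₁ = 𝟙 T := by
    ext1
    exact pullback.lift_fst _ _ _
  have hΔ₂ : Δ ≫ p₂ = 𝟙 T := by
    ext1
    exact pullback.lift_snd _ _ _
  let ψ : X ⊗ R ⟶ Y := ((X ◁ p₁) ≫ φ) * ((X ◁ p₂) ≫ φ)⁻¹
  have hsub : Subsingleton (Spec (CommRingCat.of k)) := inferInstanceAs (Subsingleton (PrimeSpectrum k))
  let pt : T.left := Classical.arbitrary _
  have hΔψ : (X ◁ Δ) ≫ ψ = 1 := by
    have h1 : (X ◁ Δ) ≫ (X ◁ p₁) = 𝟙 _ := by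
      rw [← MonoidalCategory.whiskerLeft_comp, hΔ₁, MonoidalCategory.whiskerLeft_id]
    have h2 : (X ◁ Δ) ≫ (X ◁ p₂) = 𝟙 _ := by
      rw [← MonoidalCategory.whiskerLeft_comp, hΔ₂, MonoidalCategory.whiskerLeft_id]
    rw [MonObj.comp_mul, GrpObj.comp_inv, ← Category.assoc, ← Category.assoc, h1, h2, mul_inv_cancel]
  have hpb : IsPullback (X ◁ Δ).left (snd X T).left (snd X R).left Δ.left :=
    (K509.Rigid.isPullback_whiskerLeft X Δ).map (Over.forget _)
  have hval : ∀ z : (X ⊗ R).left, (snd X R).left z = Δ.left pt →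
      ψ.left z = (η[Y] : 𝟙_ (Over (Spec (CommRingCat.of k))) ⟶ Y).left (IsLocalRing.closedPoint k) := by
    intro z hz
    obtain ⟨w, hw, -⟩ := Scheme.exists_preimage_of_isPullback hpb z pt hz
    rw [← hw, ← Scheme.Hom.comp_apply, ← Over.comp_left, hΔψ]
    have h3 : (1 : X ⊗ T ⟶ Y) = toUnit _ ≫ η[Y] := rfl
    rw [h3, Over.comp_left, Scheme.Hom.comp_apply]
    congr 1
    exact hsub.elim _ _
  have hr := K509.Rigid.rigid X R Y ψ η[X] (Δ.left pt) (fun z z' hz hz' => by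
    rw [hval z hz, hval z' hz'])
  have e : (toUnit (X ⊗ R) ≫ η[X] : X ⊗ R ⟶ X) = 1 := rfl
  have h5 : ψ = 1 := by
    rw [hr, e]
    change _ ≫ (_ * _) = _
    rw [MonObj.comp_mul, GrpObj.comp_inv, HomConst.lift_one_comp (IsoFam.isHomFamily_pull hφ p₁),
      HomConst.lift_one_comp (IsoFam.isHomFamily_pull hφ p₂), _root_.inv_one, _root_.mul_one]
  have h6 : (X ◁ p₁) ≫ φ = (X ◁ p₂) ≫ φ := mul_inv_eq_one.mp h5
  obtain ⟨φ₀, hφ₀⟩ := exists_desc q φ (fun Z a b hab => by
    let c : Z ⟶ R := Over.homMk (pullback.lift a.left b.left (congrArg (fun z => z.left) hab)) (by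
      change pullback.lift a.left b.left _ ≫ pullback.fst q.left q.left ≫ T.hom = Z.hom
      rw [← Category.assoc, pullback.lift_fst, Over.w])
    have hc₁ : c ≫ p₁ = a := by
      ext1
      exact pullback.lift_fst _ _ _
    have hc₂ : c ≫ p₂ = b := by
      ext1
      exact pullback.lift_snd _ _ _
    rw [← hc₁, ← hc₂, MonoidalCategory.whiskerLeft_comp, MonoidalCategory.whiskerLeft_comp, Category.assoc,
      Category.assoc, h6])
  exact ⟨φ₀, isHomFamily_of_pull q φ₀ (by rw [hφ₀]; exact hφ), hφ₀⟩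

end irr

section bc

variable {S S' : Scheme.{u}} {f : S' ⟶ S} {X Y : Over S}

theorem fam_unfam (φ : X ⊗ Over.mk f ⟶ Y) : fam (f := f) (IsoFam.unfam (T := Over.mk f) φ) = φ :=
  K9.Rigid.unfam_injective (K12.CentFam.unfam_fam _)

theorem ev_mul' [GrpObj Y] (φ ψ : Red.bc f X ⟶ Red.bc f Y) {T : Over S} (x : T ⟶ X) (t : T ⟶ Over.mk f) :
    ev (φ * ψ) x t = ev φ x t * ev ψ x t := by
  let c := bcEquiv f (Over.mk t.left) X ((overIso t).hom ≫ x)
  have h1 : (bcEquiv f (Over.mk t.left) Y).symm (c ≫ (φ * ψ)) =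
      (bcEquiv f (Over.mk t.left) Y).symm (c ≫ φ) * (bcEquiv f (Over.mk t.left) Y).symm (c ≫ ψ) := by
    rw [MonObj.comp_mul c]
    exact (bcMulEquiv f (Over.mk t.left) Y).symm.map_mul _ _
  change (overIso t).inv ≫ (bcEquiv f (Over.mk t.left) Y).symm (c ≫ (φ * ψ)) = _
  rw [h1, MonObj.comp_mul]
  rfl

theorem fam_mul [GrpObj Y] (φ ψ : Red.bc f X ⟶ Red.bc f Y) : fam (φ * ψ) = fam φ * fam ψ := ev_mul' _ _ _ _

/-- The base change of a constant family. -/
theorem toV_st {V : Scheme.{u}} (v : V ⟶ S) {T : Over V} (ψ : X ⊗ Over.mk v ⟶ Y) :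
    RepDescent.toV v ((X ◁ (IsoFam.st (T := Over.mk v) T : (Over.map v).obj T ⟶ Over.mk v)) ≫ ψ) =
      fst _ _ ≫ IsoFam.unfam (T := Over.mk v) ψ := by
  have h := IsoFam.comp_unfam (T := Over.mk v) ψ (fst (Red.bc v X) T)
  refine Eq.trans ?_ h.symm
  unfold RepDescent.toV
  congr 1
  rw [← Category.assoc, lift_whiskerLeft]
  congr 2
  exact IsoFam.st_comp (T := Over.mk v) (snd (Red.bc v X) T)

end bc

end Groth.Agent.AbVar.K521.HomDesc
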