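import Groth.Agent.AbVar.K521.HomField

/-!
# The étale scheme of homomorphisms between two abelian varieties
-/

set_option autoImplicit false
universe u
open CategoryTheory MonoidalCategory CartesianMonoidalCategory MonObj GrpObj AlgebraicGeometry Limits

namespace Groth.Agent.AbVar.K521.HomEt

open Groth.Agent.Sga3B TwC K12.ConstPts

theorem isHomFamily_iff {S : Scheme.{u}} {X Y T : Over S} [GrpObj X] [GrpObj Y] (φ : X ⊗ T ⟶ Y) :
    AutFam.IsHomFamily X Y φ ↔ (μ[X] ▷ T) ≫ φ = ((fst X X ▷ T) ≫ φ) * ((snd X X ▷ T) ≫ φ) := by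
  have e1 : (fst (X ⊗ X) T ≫ fst X X) * (fst (X ⊗ X) T ≫ snd X X) = fst (X ⊗ X) T ≫ μ[X] := by
    rw [← MonObj.comp_mul, Hom.mul_def, lift_fst_snd, Category.id_comp]
  constructor
  · intro h
    have h1 := h _ (fst (X ⊗ X) T ≫ fst X X) (fst (X ⊗ X) T ≫ snd X X) (snd (X ⊗ X) T)
    rw [e1] at h1
    have e : ∀ {W : Over S} (g : X ⊗ X ⟶ W), (g ▷ T) = lift (fst (X ⊗ X) T ≫ g) (snd (X ⊗ X) T) := by
      intro W g
      apply CartesianMonoidalCategory.hom_ext <;> simp
    rw [e, e, e]
    exact h1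
  · intro h R g₁ g₂ t
    have h1 := congrArg (fun z => lift (lift g₁ g₂) t ≫ z) h
    simp only [lift_whiskerRight_assoc, MonObj.comp_mul, lift_fst, lift_snd] at h1
    rw [Hom.mul_def]
    exact h1

instance etale_const (V : Scheme.{u}) (I : Type u) : Etale (const V I).hom := by
  change Etale (Sigma.desc fun _ : I => 𝟙 V)
  rw [IsZariskiLocalAtSource.iff_of_openCover (P := @Etale) (sigmaOpenCover fun _ : I => V)]
  intro i
  have : (sigmaOpenCover fun _ : I => V).f i ≫ Sigma.desc (fun _ : I => 𝟙 V) = 𝟙 V := Sigma.ι_desc _ _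
  rw [this]
  exact MorphismProperty.id_mem @Etale V

variable {k : Type u} [Field k] (X Y : Over (Spec (CommRingCat.of k))) [GrpObj X] [IsProper X.hom]
  [GeometricallyIntegral X.hom] [GrpObj Y] [IsProper Y.hom] [GeometricallyIntegral Y.hom]

/-- **The functor of homomorphisms between two abelian varieties is an étale scheme.** -/
theorem exists_etale : ∃ (A : Over (Spec (CommRingCat.of k))) (υ : X ⊗ A ⟶ Y),
    AutFam.RepresentsHom X Y A υ ∧ Etale A.hom := by
  let Ω := AlgebraicClosure k
  obtain ⟨L, hfin, hsep, h⟩ := HomField.exists_finite_sep X Y Ω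
  let v := AbVar.ext k L
  have hv : Etale v := by
    have h0 := Algebra.FormallyEtale.of_isSeparable k L
    have h0' : Algebra.FinitePresentation k L := Algebra.FinitePresentation.of_finiteType.mp inferInstance
    have h1 : Algebra.Etale k L := { }
    have h2 := (RingHom.etale_algebraMap (R := k) (S := L)).2 h1
    exact (HasRingHomProperty.Spec_iff (P := @Etale)).2 h2
  obtain ⟨υ, hυ⟩ := HomConst.exists_representsHom (HomField.split_bc L h)
  have hs : ∀ s : Spec (CommRingCat.of k), s ∈ Set.range v := fun s => v.surjective s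
  obtain ⟨A, υA, hA⟩ := RepDescent.exists_representsHom_of_etale X Y (fun s =>
    ⟨Spec (CommRingCat.of L), v, hv, hs s, _, υ, hυ, fun U hU => isQuasiAffine_of_isCompact U hU⟩)
  exact ⟨A, υA, hA, RepDescent.prop_of_representsHom @Etale hA (fun s =>
    ⟨Spec (CommRingCat.of L), v, hv, hs s, _, υ, hυ, etale_const _ _⟩)⟩

end Groth.Agent.AbVar.K521.HomEt
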