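import Groth.Agent.AbVar.K521.HomDesc
import Groth.Agent.AbVar.K510.TateHom

/-!
# Fields of definition of homomorphisms of abelian varieties

* `exists_sep`: a family of homomorphisms over an algebraic extension `Ω/k` is defined over a finite separable subextension;
* `exists_finite_sep`: all homomorphisms over an algebraic closure are defined over one finite separable extension `L`;
* `split_bc`: over such an `L` all geometric homomorphisms are defined over `L`.
-/

set_option autoImplicit false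
universe u
open CategoryTheory MonoidalCategory CartesianMonoidalCategory MonObj GrpObj AlgebraicGeometry Limits

namespace Groth.Agent.AbVar.K521.HomField

open Groth.Agent.Sga3B Groth.Agent.Sga3B.BcPts HomDesc

/-- The spectrum of an extension of `k`. -/
noncomputable abbrev sp (k K : Type u) [Field k] [Field K] [Algebra k K] : Over (Spec (CommRingCat.of k)) :=
  Over.mk (AbVar.ext k K)

/-- Transition morphisms. -/
noncomputable def tr (k L K : Type u) [Field k] [Field L] [Field K] [Algebra k L] [Algebra k K] [Algebra L K]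
    [IsScalarTower k L K] : sp k K ⟶ sp k L :=
  Over.homMk (AbVar.ext L K) (by
    change Spec.map _ ≫ Spec.map _ = Spec.map _
    rw [← Spec.map_comp, ← CommRingCat.ofHom_comp, ← IsScalarTower.algebraMap_eq])

section inst

variable (k L K : Type u) [Field k] [Field L] [Field K] [Algebra k L] [Algebra k K] [Algebra L K]
    [IsScalarTower k L K]

instance flat_tr : Flat (tr k L K).left := by
  change Flat (AbVar.ext L K)
  infer_instance

instance surjective_tr : Surjective (tr k L K).left := by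
  change Surjective (AbVar.ext L K)
  infer_instance

instance quasiCompact_tr : QuasiCompact (tr k L K).left := by
  change QuasiCompact (AbVar.ext L K)
  infer_instance

instance nonempty_sp : Nonempty (sp k K).left := inferInstanceAs (Nonempty (PrimeSpectrum K))

end inst

section one

variable {k : Type u} [Field k] {X Y : Over (Spec (CommRingCat.of k))} [GrpObj X] [IsProper X.hom]
  [GeometricallyIntegral X.hom] [GrpObj Y] [IsSeparated Y.hom] [LocallyOfFinitePresentation Y.hom]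
  (Ω : Type u) [Field Ω] [Algebra k Ω]

theorem whiskerLeft_left_eq {S : Scheme.{u}} (X : Over S) {T T' : Scheme.{u}} (t : T ⟶ S) (t' : T' ⟶ S) (g : T ⟶ T')
    (hg : g ≫ t' = t) (w₁ : X.hom ≫ 𝟙 S = 𝟙 X.left ≫ X.hom) (w₂ : t ≫ 𝟙 S = g ≫ t') :
    (X ◁ (Over.homMk g hg : Over.mk t ⟶ Over.mk t')).left =
      pullback.map X.hom t X.hom t' (𝟙 X.left) g (𝟙 S) w₁ w₂ := by
  apply pullback.hom_ext
  · exact (Over.whiskerLeft_left_fst _).trans ((pullback.lift_fst _ _ _).trans (Category.comp_id _)).symm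
  · exact (Over.whiskerLeft_left_snd _).trans (pullback.lift_snd _ _ _).symm

/-- A family over an algebraic extension is defined over a finite separable extension. -/
theorem exists_sep [Algebra.IsAlgebraic k Ω] (φ : X ⊗ sp k Ω ⟶ Y) (hφ : AutFam.IsHomFamily X Y φ) :
    ∃ L : IntermediateField k Ω, FiniteDimensional k L ∧ Algebra.IsSeparable k L ∧
      ∃ ψ : X ⊗ sp k L ⟶ Y, AutFam.IsHomFamily X Y ψ ∧ (X ◁ tr k L Ω) ≫ ψ = φ := by
  let L₀ : IntermediateField k Ω := separableClosure k Ω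
  have hprim : AbVar.IsPrimaryExt L₀ Ω := fun x hx => IsPurelyInseparable.inseparable' x hx
  have hirr : IrreducibleSpace ↥(pullback (tr k L₀ Ω).left (tr k L₀ Ω).left) :=
    K509.ChowHom.irreducibleSpace_of_isPrimaryExt L₀ Ω hprim
  obtain ⟨φ₀, h1, h2⟩ := exists_desc_irr (tr k L₀ Ω) φ hφ
  obtain ⟨B, ⟨S, hS⟩, ψ, hψ, hψ'⟩ := Groth.Agent.Sga7.H738.SpreadMor.exists_fg_factor k L₀ X.hom Y.hom φ₀.left
    (Over.w φ₀)
  let S' : Set Ω := (fun x : L₀ => (x : Ω)) '' (S : Set L₀)
  have hS'f : Finite S' := (S.finite_toSet.image _).to_subtype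
  let L : IntermediateField k Ω := IntermediateField.adjoin k S'
  have hfin : FiniteDimensional k L := IntermediateField.finiteDimensional_adjoin fun x _ =>
    Algebra.IsIntegral.isIntegral x
  have hsep : Algebra.IsSeparable k L := by
    rw [IntermediateField.isSeparable_adjoin_iff_isSeparable]
    rintro _ ⟨x, -, rfl⟩
    exact mem_separableClosure_iff.1 x.2
  have hB : ∀ b : B, ((b : L₀) : Ω) ∈ L := by
    have h3 : B.map L₀.val ≤ L.toSubalgebra := by
      rw [← hS, AlgHom.map_adjoin]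
      refine Algebra.adjoin_le ?_
      rintro _ ⟨x, hx, rfl⟩
      exact IntermediateField.subset_adjoin k S' ⟨x, hx, rfl⟩
    intro b
    exact h3 ⟨b, b.2, rfl⟩
  let j : B →ₐ[k] L := ((L₀.val.comp B.val).codRestrict L.toSubalgebra hB)
  let T₁ : Over (Spec (CommRingCat.of k)) := Over.mk (Groth.Agent.Sga7.H738.SpreadMor.str k B)
  let jm : sp k L ⟶ T₁ := Over.homMk (Spec.map (CommRingCat.ofHom j.toRingHom)) (by
    change Spec.map _ ≫ Spec.map _ = Spec.map _
    rw [← Spec.map_comp, ← CommRingCat.ofHom_comp]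
    rfl)
  let t₀ : sp k L₀ ⟶ T₁ := Over.homMk (Spec.map (CommRingCat.ofHom (algebraMap B L₀))) (by
    change Spec.map _ ≫ Spec.map _ = Spec.map _
    rw [← Spec.map_comp, ← CommRingCat.ofHom_comp]
    rfl)
  let Ψ : X ⊗ T₁ ⟶ Y := Over.homMk ψ hψ
  have h4 : (X ◁ t₀) ≫ Ψ = φ₀ := by
    ext1
    rw [Over.comp_left]
    refine Eq.trans ?_ hψ'
    congr 1
  have h5 : tr k L Ω ≫ jm = tr k L₀ Ω ≫ t₀ := by
    ext1
    change Spec.map _ ≫ Spec.map _ = Spec.map _ ≫ Spec.map _
    rw [← Spec.map_comp, ← Spec.map_comp, ← CommRingCat.ofHom_comp, ← CommRingCat.ofHom_comp]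
    rfl
  have h6 : (X ◁ tr k L Ω) ≫ (X ◁ jm) ≫ Ψ = φ := by
    rw [← Category.assoc, ← MonoidalCategory.whiskerLeft_comp, h5, MonoidalCategory.whiskerLeft_comp,
      Category.assoc, h4, h2]
  exact ⟨L, hfin, hsep, (X ◁ jm) ≫ Ψ, isHomFamily_of_pull (tr k L Ω) _ (by rw [h6]; exact hφ), h6⟩

end one

section fam

variable {S : Scheme.{u}} {X Y T : Over S} [GrpObj X] [GrpObj Y] [IsCommMonObj Y] {φ ψ : X ⊗ T ⟶ Y}

theorem isHomFamily_mul (hφ : AutFam.IsHomFamily X Y φ) (hψ : AutFam.IsHomFamily X Y ψ) :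
    AutFam.IsHomFamily X Y (φ * ψ) := by
  intro R g₁ g₂ t
  rw [MonObj.comp_mul, MonObj.comp_mul, MonObj.comp_mul, hφ, hψ, _root_.mul_mul_mul_comm]

theorem isHomFamily_inv (hφ : AutFam.IsHomFamily X Y φ) : AutFam.IsHomFamily X Y φ⁻¹ := by
  intro R g₁ g₂ t
  rw [GrpObj.comp_inv, GrpObj.comp_inv, GrpObj.comp_inv, hφ, _root_.mul_inv]

theorem isHomFamily_one : AutFam.IsHomFamily X Y (1 : X ⊗ T ⟶ Y) := by
  intro R g₁ g₂ t
  rw [MonObj.comp_one, MonObj.comp_one, MonObj.comp_one, _root_.mul_one]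

end fam

section main

variable {k : Type u} [Field k] (X Y : Over (Spec (CommRingCat.of k))) [GrpObj X] [IsProper X.hom]
  [GeometricallyIntegral X.hom] [GrpObj Y] [IsProper Y.hom] [GeometricallyIntegral Y.hom]
  (Ω : Type u) [Field Ω] [Algebra k Ω]

/-- The homomorphisms defined over `L`. -/
noncomputable def Hsub [IsCommMonObj X] [IsCommMonObj Y] (L : IntermediateField k Ω) :
    AddSubgroup (EndAV.Hom (Red.bc (AbVar.ext k Ω) X) (Red.bc (AbVar.ext k Ω) Y)) where
  carrier := {u | ∃ ψ : X ⊗ sp k L ⟶ Y, AutFam.IsHomFamily X Y ψ ∧ (X ◁ tr k L Ω) ≫ ψ = fam u.toHom}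
  add_mem' := by
    rintro u u' ⟨ψ, h1, h2⟩ ⟨ψ', h1', h2'⟩
    refine ⟨ψ * ψ', isHomFamily_mul h1 h1', ?_⟩
    rw [MonObj.comp_mul, h2, h2', ← fam_mul]
    rfl
  zero_mem' := by
    refine ⟨1, isHomFamily_one, ?_⟩
    rw [MonObj.comp_one]
    exact ((MonoidHom.mk' (fun u : Red.bc (AbVar.ext k Ω) X ⟶ Red.bc (AbVar.ext k Ω) Y => fam u) fam_mul).map_one).symm
  neg_mem' := by
    rintro u ⟨ψ, h1, h2⟩
    refine ⟨ψ⁻¹, isHomFamily_inv h1, ?_⟩
    rw [GrpObj.comp_inv, h2]
    exact ((MonoidHom.mk' (fun u : Red.bc (AbVar.ext k Ω) X ⟶ Red.bc (AbVar.ext k Ω) Y => fam u)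
      fam_mul).map_inv u.toHom).symm

variable {X Y Ω} in
theorem Hsub_mono [IsCommMonObj X] [IsCommMonObj Y] {L L' : IntermediateField k Ω} (h : L ≤ L') :
    Hsub X Y Ω L ≤ Hsub X Y Ω L' := by
  rintro u ⟨ψ, h1, h2⟩
  let i : sp k L' ⟶ sp k L := Over.homMk (Spec.map (CommRingCat.ofHom (IntermediateField.inclusion h).toRingHom)) (by
    change Spec.map _ ≫ Spec.map _ = Spec.map _
    rw [← Spec.map_comp, ← CommRingCat.ofHom_comp]
    rfl)
  refine ⟨(X ◁ i) ≫ ψ, IsoFam.isHomFamily_pull h1 i, ?_⟩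
  rw [← h2, ← Category.assoc, ← MonoidalCategory.whiskerLeft_comp]
  congr 2
  ext1
  change Spec.map _ ≫ Spec.map _ = Spec.map _
  rw [← Spec.map_comp, ← CommRingCat.ofHom_comp]
  rfl

/-- **All homomorphisms over an algebraic closure are defined over a finite separable extension.** -/
theorem exists_finite_sep [IsAlgClosure k Ω] :
    ∃ L : IntermediateField k Ω, FiniteDimensional k L ∧ Algebra.IsSeparable k L ∧
      ∀ φ : X ⊗ sp k Ω ⟶ Y, AutFam.IsHomFamily X Y φ →
        ∃ ψ : X ⊗ sp k L ⟶ Y, AutFam.IsHomFamily X Y ψ ∧ (X ◁ tr k L Ω) ≫ ψ = φ := by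
  have hac : IsAlgClosed Ω := IsAlgClosure.isAlgClosed k
  have halg : Algebra.IsAlgebraic k Ω := IsAlgClosure.isAlgebraic
  have hXc : IsCommMonObj X := isCommMonObj_of_isProper_of_geometricallyIntegral X
  have hYc : IsCommMonObj Y := isCommMonObj_of_isProper_of_geometricallyIntegral Y
  have hfin : Module.Finite ℤ (EndAV.Hom (Red.bc (AbVar.ext k Ω) X) (Red.bc (AbVar.ext k Ω) Y)) :=
    K510.TateHom.finite_hom _ _
  have hone : ∀ u : EndAV.Hom (Red.bc (AbVar.ext k Ω) X) (Red.bc (AbVar.ext k Ω) Y),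
      ∃ L : IntermediateField k Ω, FiniteDimensional k L ∧ Algebra.IsSeparable k L ∧ u ∈ Hsub X Y Ω L := fun u =>
    exists_sep Ω (fam u.toHom) (IsoFam.isHomFamily_fam u.toHom)
  have hall : ∀ S : Finset (EndAV.Hom (Red.bc (AbVar.ext k Ω) X) (Red.bc (AbVar.ext k Ω) Y)),
      ∃ L : IntermediateField k Ω, FiniteDimensional k L ∧ Algebra.IsSeparable k L ∧
        ∀ u ∈ S, u ∈ Hsub X Y Ω L := by
    classical
    intro S
    induction S using Finset.induction_on with
    | empty =>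
      refine ⟨⊥, inferInstance, inferInstance, ?_⟩
      intro u hu
      exact absurd hu (Finset.notMem_empty u)
    | insert a S _ ih =>
      obtain ⟨L, h1, h2, h3⟩ := ih
      obtain ⟨L', h1', h2', h3'⟩ := hone a
      refine ⟨L ⊔ L', inferInstance, inferInstance, fun u hu => ?_⟩
      rcases Finset.mem_insert.mp hu with rfl | hu
      · exact Hsub_mono le_sup_right h3'
      · exact Hsub_mono le_sup_left (h3 u hu)
  obtain ⟨S, hS⟩ := hfin.fg_top
  obtain ⟨L, h1, h2, h3⟩ := hall S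
  refine ⟨L, h1, h2, fun φ hφ => ?_⟩
  have h4 : IsMonHom (IsoFam.unfam (T := sp k Ω) φ) := IsoFam.isMonHom_unfam hφ
  let u : EndAV.Hom (Red.bc (AbVar.ext k Ω) X) (Red.bc (AbVar.ext k Ω) Y) :=
    EndAV.Hom.of (IsoFam.unfam (T := sp k Ω) φ)
  have h5 : (⊤ : Submodule ℤ (EndAV.Hom (Red.bc (AbVar.ext k Ω) X) (Red.bc (AbVar.ext k Ω) Y))) ≤
      AddSubgroup.toIntSubmodule (Hsub X Y Ω L) := by
    rw [← hS, Submodule.span_le]
    exact fun u hu => h3 u hu
  obtain ⟨ψ, h6, h7⟩ := h5 (Submodule.mem_top : u ∈ ⊤)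
  exact ⟨ψ, h6, h7.trans (fam_unfam φ)⟩

variable {X Y Ω} in
/-- Over such an extension all geometric homomorphisms are defined over the base. -/
theorem split_bc [IsAlgClosure k Ω] (L : IntermediateField k Ω)
    (h : ∀ φ : X ⊗ sp k Ω ⟶ Y, AutFam.IsHomFamily X Y φ →
        ∃ ψ : X ⊗ sp k L ⟶ Y, AutFam.IsHomFamily X Y ψ ∧ (X ◁ tr k L Ω) ≫ ψ = φ) :
    HomConst.Split (Red.bc (AbVar.ext k L) X) (Red.bc (AbVar.ext k L) Y) := by
  intro Ω' _ _ x φ hφ
  have hac : IsAlgClosed Ω := IsAlgClosure.isAlgClosed k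
  have halg : Algebra.IsAlgebraic k Ω := IsAlgClosure.isAlgebraic
  let f : L →+* Ω' := (Spec.preimage x).hom
  let _ : Algebra L Ω' := f.toAlgebra
  have hx : AbVar.ext L Ω' = x := Spec.map_preimage x
  have halg' : Algebra.IsAlgebraic L Ω := Algebra.IsAlgebraic.tower_top (K := k) L
  let e : Ω →ₐ[L] Ω' := IsAlgClosed.lift
  let _ : Algebra Ω Ω' := e.toRingHom.toAlgebra
  have hax : AbVar.ext Ω Ω' ≫ AbVar.ext L Ω = x := by
    rw [← hx]
    change Spec.map _ ≫ Spec.map _ = Spec.map _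
    rw [← Spec.map_comp, ← CommRingCat.ofHom_comp]
    congr 2
    exact e.comp_algebraMap
  have hprim : AbVar.IsPrimaryExt Ω Ω' := by
    intro y hy
    have h1 : IsIntegral Ω y := hy.isIntegral
    have h2 := IsAlgClosed.degree_eq_one_of_irreducible Ω (minpoly.irreducible h1)
    exact minpoly.mem_range_of_degree_eq_one Ω y h2
  let q : (Over.map (AbVar.ext k L)).obj (Over.mk x) ⟶ sp k Ω := Over.homMk (AbVar.ext Ω Ω') (by
    change AbVar.ext Ω Ω' ≫ AbVar.ext k Ω = x ≫ AbVar.ext k L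
    rw [← hax, Category.assoc]
    congr 1
    change Spec.map _ = Spec.map _ ≫ Spec.map _
    rw [← Spec.map_comp, ← CommRingCat.ofHom_comp, ← IsScalarTower.algebraMap_eq])
  have i1 : Flat q.left := inferInstanceAs (Flat (AbVar.ext Ω Ω'))
  have i2 : Surjective q.left := inferInstanceAs (Surjective (AbVar.ext Ω Ω'))
  have i3 : QuasiCompact q.left := inferInstanceAs (QuasiCompact (AbVar.ext Ω Ω'))
  have i4 : Nonempty ((Over.map (AbVar.ext k L)).obj (Over.mk x)).left :=
    inferInstanceAs (Nonempty (PrimeSpectrum Ω'))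
  have i5 : IrreducibleSpace ↥(pullback q.left q.left) :=
    K509.ChowHom.irreducibleSpace_of_isPrimaryExt Ω Ω' hprim
  obtain ⟨φ₀, h1, h2⟩ := exists_desc_irr q (RepDescent.ofV (AbVar.ext k L) φ)
    (RepDescent.isHomFamily_ofV (AbVar.ext k L) hφ)
  obtain ⟨ψ, h3, h4⟩ := h φ₀ h1
  refine ⟨IsoFam.unfam (T := sp k L) ψ, IsoFam.isMonHom_unfam h3, ?_⟩
  have h5 : (X ◁ (IsoFam.st (T := sp k L) (Over.mk x) : (Over.map (AbVar.ext k L)).obj (Over.mk x) ⟶ sp k L)) ≫ ψ =
      RepDescent.ofV (AbVar.ext k L) φ := by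
    rw [← h2, ← h4, ← Category.assoc, ← MonoidalCategory.whiskerLeft_comp]
    congr 2
    ext1
    exact hax.symm
  have h6 := toV_st (AbVar.ext k L) (T := Over.mk x) ψ
  exact h6.symm.trans ((congrArg (RepDescent.toV (AbVar.ext k L)) h5).trans
    (RepDescent.toV_ofV (AbVar.ext k L) φ))

end main

end Groth.Agent.AbVar.K521.HomField
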