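import Groth.Agent.Grpsch.AbTangent
import Mathlib.Algebra.TrivSqZeroExt.Basic

/-!
# Infinitesimal points of a group scheme over a field of characteristic `p`

`pow_eq_one_of_sq_zero`: a point `y` with values in a local `K`-algebra `R` which is trivial modulo a square zero ideal
is killed by every integer `d` which is zero in `K`;
`pow_eq_one`: if `n ^ (j + 1) = 0` and `y` is trivial modulo `n` then `y ^ (d ^ j) = 1`.
-/

set_option autoImplicit false
universe u

open CategoryTheory Limits AlgebraicGeometry MonoidalCategory CartesianMonoidalCategory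
open scoped MonObj
open Groth.Agent.Grpsch.AbTangent

namespace K521.Infin

variable {K : Type u} [Field K]

/-- `Spec R` over `Spec K`. -/
noncomputable abbrev sp (R : Type u) [CommRing R] [Algebra K R] : Over (Spec (CommRingCat.of K)) :=
  Over.mk (Spec.map (CommRingCat.ofHom (algebraMap K R)))

/-- functoriality -/
noncomputable def spMap {R S : Type u} [CommRing R] [Algebra K R] [CommRing S] [Algebra K S] (f : R →ₐ[K] S) :
    sp (K := K) S ⟶ sp (K := K) R :=
  Over.homMk (Spec.map (CommRingCat.ofHom f.toRingHom)) (by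
    dsimp
    rw [← Spec.map_comp, ← CommRingCat.ofHom_comp]
    congr 2
    exact f.comp_algebraMap)

@[simp] lemma spMap_left {R S : Type u} [CommRing R] [Algebra K R] [CommRing S] [Algebra K S] (f : R →ₐ[K] S) :
    (spMap f).left = Spec.map (CommRingCat.ofHom f.toRingHom) := rfl

lemma spMap_comp {R S T : Type u} [CommRing R] [Algebra K R] [CommRing S] [Algebra K S] [CommRing T] [Algebra K T]
    (f : R →ₐ[K] S) (g : S →ₐ[K] T) : spMap g ≫ spMap f = spMap (g.comp f) := by
  ext1
  rw [Over.comp_left, spMap_left, spMap_left, spMap_left, ← Spec.map_comp, ← CommRingCat.ofHom_comp]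
  rfl

section sq

variable {R : Type u} [CommRing R] [Algebra K R] (J : Ideal R) (hJ : J * J = ⊥)

noncomputable instance : Module Kᵐᵒᵖ J := Module.compHom J ((RingHom.id K).fromOpposite mul_comm)

instance : IsCentralScalar K J := ⟨fun _ _ => rfl⟩

include hJ in
/-- the map `K ⊕ J → R` -/
theorem exists_incl : ∃ ψ : TrivSqZeroExt K J →ₐ[K] R, ∀ x : TrivSqZeroExt K J,
    ψ x = algebraMap K R x.fst + (x.snd : R) := by
  refine ⟨TrivSqZeroExt.liftEquivOfComm ⟨J.subtype.restrictScalars K, ?_⟩, ?_⟩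
  · intro x y
    have : (x : R) * y ∈ J * J := Ideal.mul_mem_mul x.2 y.2
    rw [hJ] at this
    exact this
  · intro x
    rw [TrivSqZeroExt.liftEquivOfComm_apply, TrivSqZeroExt.lift_def]
    rfl

end sq

section pt

variable {G : Over (Spec (CommRingCat.of K))} [GrpObj G]

/-- A point with values in a local algebra which is trivial modulo a square zero ideal comes from a tangent vector at
the origin. -/
theorem exists_tangent {R : Type u} [CommRing R] [IsLocalRing R] [Algebra K R] (J : Ideal R) (hJ : J * J = ⊥)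
    (hJ' : J ≠ ⊤) (y : sp (K := K) R ⟶ G) (hy : spMap (Ideal.Quotient.mkₐ K J) ≫ y = 1) :
    ∃ (ψ : TrivSqZeroExt K J →ₐ[K] R) (τ : specT (K := K) J ⟶ G), specT0 J ≫ τ = η[G] ∧ spMap ψ ≫ τ = y := by
  obtain ⟨ψ, hψ⟩ := exists_incl (K := K) J hJ
  have hinj : Function.Injective ψ := by
    rw [injective_iff_map_eq_zero]
    intro x hx
    rw [hψ] at hx
    have h1 : x.fst = 0 := by
      by_contra h
      apply hJ'
      rw [Ideal.eq_top_iff_one]
      have h2 : algebraMap K R x.fst ∈ J := by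
        rw [eq_neg_of_add_eq_zero_left hx]
        exact J.neg_mem x.snd.2
      have h3 := J.mul_mem_left (algebraMap K R x.fst⁻¹) h2
      rwa [← map_mul, inv_mul_cancel₀ h, map_one] at h3
    rw [h1, map_zero, zero_add] at hx
    exact TrivSqZeroExt.ext h1 (Subtype.ext hx)
  obtain ⟨⟨x, φ, hφ⟩, hx⟩ := (SpecToEquivOfLocalRing G.left (.of R)).symm.surjective y.left
  obtain ⟨⟨x', ε, hε⟩, hx'⟩ := (SpecToEquivOfLocalRing G.left (.of K)).symm.surjective η[G].left
  simp only [SpecToEquivOfLocalRing_symm_apply] at hx hx'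
  have hnt : Nontrivial (R ⧸ J) := Ideal.Quotient.nontrivial_iff.mpr hJ'
  have hloc : IsLocalRing (R ⧸ J) := IsLocalRing.of_surjective' (Ideal.Quotient.mk J) Ideal.Quotient.mk_surjective
  have h1 : Spec.map (CommRingCat.ofHom (Ideal.Quotient.mkₐ K J).toRingHom) ≫ Spec.map φ ≫ G.left.fromSpecStalk x =
      Spec.map (CommRingCat.ofHom (algebraMap K (R ⧸ J))) ≫ Spec.map ε ≫ G.left.fromSpecStalk x' := by
    rw [hx, hx']
    have := congrArg (fun z => z.left) hy
    exact this
  have e1 : IsLocalHom (φ ≫ CommRingCat.ofHom (Ideal.Quotient.mkₐ K J).toRingHom).hom := by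
    have : IsLocalHom (Ideal.Quotient.mkₐ K J).toRingHom :=
      IsLocalHom.of_surjective _ (Ideal.Quotient.mk_surjective (I := J))
    rw [CommRingCat.hom_comp]
    exact RingHom.isLocalHom_comp _ _
  have e2 : IsLocalHom (ε ≫ CommRingCat.ofHom (algebraMap K (R ⧸ J))).hom := by
    rw [CommRingCat.hom_comp]
    exact RingHom.isLocalHom_comp _ _
  rw [← Spec.map_comp_assoc, ← Spec.map_comp_assoc] at h1
  have hxy : x = x' := by
    rw [← map_fromSpecStalk_closedPoint x (φ ≫ CommRingCat.ofHom (Ideal.Quotient.mkₐ K J).toRingHom),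
      ← map_fromSpecStalk_closedPoint x' (ε ≫ CommRingCat.ofHom (algebraMap K (R ⧸ J))), h1]
  subst hxy
  rw [cancel_mono] at h1
  have h2 := Spec.map_injective h1
  have h3 : ∀ a, φ.hom a - algebraMap K R (ε.hom a) ∈ J := by
    intro a
    rw [← Ideal.Quotient.eq]
    exact congr($h2 a)
  let F : G.left.presheaf.stalk x → TrivSqZeroExt K J := fun a => (ε.hom a, ⟨φ.hom a - algebraMap K R (ε.hom a), h3 a⟩)
  have hF : ∀ a, ψ (F a) = φ.hom a := by
    intro a
    rw [hψ]
    change algebraMap K R (ε.hom a) + (φ.hom a - algebraMap K R (ε.hom a)) = φ.hom a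
    ring
  let φ' : G.left.presheaf.stalk x →+* TrivSqZeroExt K J :=
    { toFun := F
      map_one' := hinj (by rw [hF, map_one, map_one])
      map_mul' := fun a b => hinj (by rw [hF, map_mul, map_mul, hF, hF])
      map_zero' := hinj (by rw [hF, map_zero, map_zero])
      map_add' := fun a b => hinj (by rw [hF, map_add, map_add, hF, hF]) }
  have hφ' : CommRingCat.ofHom φ' ≫ CommRingCat.ofHom ψ.toRingHom = φ := by
    ext a
    exact hF a
  obtain ⟨θ, hθ⟩ : ∃ θ : CommRingCat.of K ⟶ G.left.presheaf.stalk x, Spec.map θ = G.left.fromSpecStalk x ≫ G.hom :=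
    ⟨Spec.preimage _, Spec.map_preimage _⟩
  have hθ1 : θ ≫ φ = CommRingCat.ofHom (algebraMap K R) := by
    apply Spec.map_injective
    rw [Spec.map_comp, hθ, ← Category.assoc, hx]
    exact Over.w y
  refine ⟨ψ, Over.homMk (Spec.map (CommRingCat.ofHom φ') ≫ G.left.fromSpecStalk x) ?_, ?_, ?_⟩
  · change (Spec.map (CommRingCat.ofHom φ') ≫ G.left.fromSpecStalk x) ≫ G.hom =
      Spec.map (CommRingCat.ofHom (algebraMap K (TrivSqZeroExt K J)))
    rw [Category.assoc, ← hθ, ← Spec.map_comp]
    congr 1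
    refine CommRingCat.hom_ext (RingHom.ext fun a => hinj ?_)
    have h4 : ψ (φ' (θ.hom a)) = algebraMap K R a := by
      have h5 : ψ (φ' (θ.hom a)) = φ.hom (θ.hom a) := hF _
      rw [h5]
      exact congr($hθ1 a)
    have h6 : ψ (algebraMap K (TrivSqZeroExt K J) a) = algebraMap K R a := ψ.commutes a
    exact h4.trans h6.symm
  · ext1
    rw [Over.comp_left, specT0_left, ← hx']
    change Spec.map _ ≫ Spec.map (CommRingCat.ofHom φ') ≫ G.left.fromSpecStalk x = _
    rw [← Category.assoc, ← Spec.map_comp]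
    congr 2
  · ext1
    rw [Over.comp_left, spMap_left]
    change Spec.map _ ≫ Spec.map (CommRingCat.ofHom φ') ≫ G.left.fromSpecStalk x = _
    rw [← Category.assoc, ← Spec.map_comp, hφ', hx]

theorem pow_eq_one_of_sq_zero {R : Type u} [CommRing R] [IsLocalRing R] [Algebra K R] (J : Ideal R) (hJ : J * J = ⊥)
    (hJ' : J ≠ ⊤) (y : sp (K := K) R ⟶ G) (hy : spMap (Ideal.Quotient.mkₐ K J) ≫ y = 1) (n : ℕ) (hn : (n : K) = 0) :
    y ^ n = 1 := by
  obtain ⟨ψ, τ, hτ, rfl⟩ := exists_tangent J hJ hJ' y hy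
  have h1 : (spMap ψ ≫ τ) ^ n = spMap ψ ≫ (τ ≫ (𝟙 G ^ (n : ℤ))) := by
    rw [GrpObj.comp_zpow, Category.comp_id, zpow_natCast, MonObj.comp_pow]
  rw [h1, comp_zpow_eq_specTmap_zsmul τ hτ]
  have h2 : ((n : ℤ) • LinearMap.id : J →ₗ[K] J) = 0 := by
    ext x
    have h3 : ((n : ℤ) • (LinearMap.id : J →ₗ[K] J)) x = (n : K) • x := by
      rw [LinearMap.smul_apply, LinearMap.id_apply, natCast_zsmul, Nat.cast_smul_eq_nsmul]
    rw [h3, hn, zero_smul]
    rfl
  rw [h2, specTmap_zero_comp τ hτ, MonObj.comp_one]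

/-- A point with values in a local algebra which is trivial modulo a nilpotent ideal is killed by a power of every
integer which is zero in `K`. -/
theorem pow_eq_one (n : ℕ) (hn : (n : K) = 0) (j : ℕ) :
    ∀ {R : Type u} [CommRing R] [IsLocalRing R] [Algebra K R] (I : Ideal R) (_ : I ^ (j + 1) = ⊥)
      (_ : I ≠ ⊤) (y : sp (K := K) R ⟶ G) (_ : spMap (Ideal.Quotient.mkₐ K I) ≫ y = 1), y ^ (n ^ j) = 1 := by
  induction j with
  | zero =>
    intro R _ _ _ I hI hI' y hy
    rw [zero_add, pow_one] at hI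
    subst hI
    rw [pow_zero, pow_one]
    let e : (R ⧸ (⊥ : Ideal R)) →ₐ[K] R := (AlgEquiv.quotientBot K R).toAlgHom
    have h1 : spMap e ≫ spMap (Ideal.Quotient.mkₐ K (⊥ : Ideal R)) = 𝟙 _ := by
      rw [spMap_comp]
      ext1
      have h2 : e.comp (Ideal.Quotient.mkₐ K (⊥ : Ideal R)) = AlgHom.id K R := by
        ext a
        rfl
      rw [h2, spMap_left]
      exact Spec.map_id _
    rw [← Category.id_comp y, ← h1, Category.assoc, hy, MonObj.comp_one]
  | succ j ih =>
    intro R _ _ _ I hI hI' y hy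
    let J : Ideal R := I ^ (j + 1)
    have hJI : J ≤ I := Ideal.pow_le_self (Nat.succ_ne_zero j)
    have hJ' : J ≠ ⊤ := fun h => hI' (top_le_iff.mp (h ▸ hJI))
    have hJ : J * J = ⊥ := by
      rw [← le_bot_iff, ← hI, ← pow_add]
      exact Ideal.pow_le_pow_right (by omega)
    have hnt : Nontrivial (R ⧸ J) := Ideal.Quotient.nontrivial_iff.mpr hJ'
    have hloc : IsLocalRing (R ⧸ J) := IsLocalRing.of_surjective' (Ideal.Quotient.mk J) Ideal.Quotient.mk_surjective
    let I' : Ideal (R ⧸ J) := I.map (Ideal.Quotient.mk J)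
    have h1 : (spMap (Ideal.Quotient.mkₐ K J) ≫ y) ^ (n ^ j) = 1 := by
      refine ih I' ?_ ?_ _ ?_
      · rw [← Ideal.map_pow]
        exact Ideal.map_quotient_self J
      · intro h
        apply hI'
        have h2 := congrArg (Ideal.comap (Ideal.Quotient.mk J)) h
        rw [Ideal.comap_map_of_surjective _ Ideal.Quotient.mk_surjective, Ideal.comap_top] at h2
        rw [← h2, eq_comm, sup_eq_left]
        intro a ha
        rw [Ideal.mem_comap, Ideal.mem_bot, Ideal.Quotient.eq_zero_iff_mem] at ha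
        exact hJI ha
      · rw [← Category.assoc, spMap_comp]
        let q : (R ⧸ I) →ₐ[K] ((R ⧸ J) ⧸ I') := Ideal.Quotient.liftₐ I
          ((Ideal.Quotient.mkₐ K I').comp (Ideal.Quotient.mkₐ K J)) (fun a ha => by
            change Ideal.Quotient.mk I' (Ideal.Quotient.mk J a) = 0
            rw [Ideal.Quotient.eq_zero_iff_mem]
            exact Ideal.mem_map_of_mem _ ha)
        have h3 : (Ideal.Quotient.mkₐ K I').comp (Ideal.Quotient.mkₐ K J) = q.comp (Ideal.Quotient.mkₐ K I) := by
          ext a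
          rfl
        rw [h3, ← spMap_comp, Category.assoc, hy, MonObj.comp_one]
    rw [pow_succ, pow_mul]
    refine pow_eq_one_of_sq_zero J hJ hJ' _ ?_ n hn
    rw [MonObj.comp_pow, h1]

end pt

end K521.Infin
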