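import Groth.Agent.Grpsch.CubePow
import Groth.Agent.Grpsch.MulFinFlat
import Groth.Agent.AbVar.K521.SeesawRed
import Mathlib.AlgebraicGeometry.Group.Abelian

/-!
# The Mumford pairing `lam L a b = (ab)^* L ⊗ (a^* L)⁻¹ ⊗ (b^* L)⁻¹` on points of an abelian variety

* `lam_mul_left`, `lam_mul_right`, `lam_pow_left`, `lam_inv_inv`: bimultiplicativity (theorem of the cube);
* `Lam_eq_one_of_pow_left`: if `lam L (fst ^ n) snd = 1` for some `n ≥ 1` then `lam L fst snd = 1`;
* `lam_eq_one_of_pow`: if `lam L fst snd ^ n = 1` for some `n ≥ 1` then `lam L fst snd = 1` (the Mumford classes have no torsion).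
-/

set_option autoImplicit false
universe u

open CategoryTheory Limits MonoidalCategory CartesianMonoidalCategory AlgebraicGeometry TopologicalSpace
open scoped MonObj
open Groth.Agent Groth.Agent.Grpsch.PicGrp Groth.Agent.Grpsch.Cube

namespace K521.Lam

variable {K : Type u} [Field K] {A : Over (Spec (CommRingCat.of K))} [GrpObj A]

/-- `(ab)^* L ⊗ (a^* L)⁻¹ ⊗ (b^* L)⁻¹`. -/
noncomputable def lam {T : Over (Spec (CommRingCat.of K))} (L : Pic A.left) (a b : T ⟶ A) : Pic T.left :=
  pl (a * b) L * (pl a L)⁻¹ * (pl b L)⁻¹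

variable {T T' : Over (Spec (CommRingCat.of K))}

theorem lam_comp (L : Pic A.left) (f : T' ⟶ T) (a b : T ⟶ A) : pl f (lam L a b) = lam L (f ≫ a) (f ≫ b) := by
  simp only [lam, map_mul, map_inv, ← pl_comp, MonObj.comp_mul]

theorem lam_one_left (L : Pic A.left) (b : T ⟶ A) : lam L 1 b = 1 := by
  rw [lam, one_mul, pl_one, inv_one, mul_one, mul_inv_cancel]

theorem lam_one_right (L : Pic A.left) (a : T ⟶ A) : lam L a 1 = 1 := by
  rw [lam, mul_one, pl_one, inv_one, mul_one, mul_inv_cancel]

theorem lam_class_mul (L M : Pic A.left) (a b : T ⟶ A) : lam (L * M) a b = lam L a b * lam M a b := by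
  simp only [lam, map_mul, mul_inv]
  generalize pl (a * b) L = x1
  generalize pl (a * b) M = x2
  generalize (pl a L)⁻¹ = x3
  generalize (pl a M)⁻¹ = x4
  generalize (pl b L)⁻¹ = x5
  generalize (pl b M)⁻¹ = x6
  ac_rfl

theorem lam_class_one (a b : T ⟶ A) : lam (1 : Pic A.left) a b = 1 := by
  simp only [lam, map_one, inv_one, mul_one]

theorem lam_class_pow (L : Pic A.left) (n : ℕ) (a b : T ⟶ A) : lam (L ^ n) a b = lam L a b ^ n := by
  induction n with
  | zero => rw [pow_zero, pow_zero, lam_class_one]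
  | succ n ih => rw [pow_succ, pow_succ, lam_class_mul, ih]

theorem lam_class_inv (L : Pic A.left) (a b : T ⟶ A) : lam L⁻¹ a b = (lam L a b)⁻¹ := by
  rw [eq_inv_iff_mul_eq_one, ← lam_class_mul, inv_mul_cancel, lam_class_one]

variable [IsProper A.hom] [GeometricallyIntegral A.hom]

theorem lam_mul_left (L : Pic A.left) (a b c : T ⟶ A) : lam L (a * b) c = lam L a c * lam L b c := by
  have h := cube L a b c
  simp only [lam]
  rw [mul_inv_eq_iff_eq_mul, mul_inv_eq_iff_eq_mul]
  have h2 : pl (a * b * c) L * (pl a L * pl b L * pl c L) = pl (a * b) L * pl (a * c) L * pl (b * c) L := by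
    rw [← h]; simp only [mul_assoc]
  rw [← mul_left_inj (pl a L * pl b L * pl c L), h2]
  generalize pl (a * b) L = x1
  generalize pl (a * c) L = x2
  generalize pl (b * c) L = x3
  generalize pl a L = x4
  generalize pl b L = x5
  generalize pl c L = x6
  have : x2 * x4⁻¹ * x6⁻¹ * (x3 * x5⁻¹ * x6⁻¹) * x6 * x1 * (x4 * x5 * x6) =
    x1 * x2 * x3 * (x4⁻¹ * x4) * (x5⁻¹ * x5) * (x6⁻¹ * x6) * (x6⁻¹ * x6) := by ac_rfl
  rw [this]
  simp only [inv_mul_cancel, mul_one]

theorem mul_comm_pts (a b : T ⟶ A) : a * b = b * a := by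
  have := isCommMonObj_of_isProper_of_geometricallyIntegral A
  exact mul_comm a b

theorem lam_comm (L : Pic A.left) (a b : T ⟶ A) : lam L a b = lam L b a := by
  rw [lam, lam, mul_comm_pts a b, mul_assoc, mul_assoc, mul_comm (pl a L)⁻¹]

theorem lam_mul_right (L : Pic A.left) (a b c : T ⟶ A) : lam L a (b * c) = lam L a b * lam L a c := by
  rw [lam_comm, lam_mul_left, lam_comm L b, lam_comm L c]

theorem lam_pow_left (L : Pic A.left) (a b : T ⟶ A) (n : ℕ) : lam L (a ^ n) b = lam L a b ^ n := by
  induction n with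
  | zero => rw [pow_zero, pow_zero, lam_one_left]
  | succ n ih => rw [pow_succ, pow_succ, lam_mul_left, ih]

theorem lam_inv_left (L : Pic A.left) (a b : T ⟶ A) : lam L a⁻¹ b = (lam L a b)⁻¹ := by
  rw [eq_inv_iff_mul_eq_one, ← lam_mul_left, inv_mul_cancel, lam_one_left]

theorem lam_inv_right (L : Pic A.left) (a b : T ⟶ A) : lam L a b⁻¹ = (lam L a b)⁻¹ := by
  rw [eq_inv_iff_mul_eq_one, ← lam_mul_right, inv_mul_cancel, lam_one_right]

theorem lam_inv_inv (L : Pic A.left) (a b : T ⟶ A) : lam L a⁻¹ b⁻¹ = lam L a b := by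
  rw [lam_inv_left, lam_inv_right, inv_inv]

/-- `lam` of `[-1]^* L`. -/
theorem lam_pl_inv (L : Pic A.left) (a b : T ⟶ A) : lam (pl (𝟙 A)⁻¹ L) a b = lam L a b := by
  have h : ∀ x : T ⟶ A, pl x (pl (𝟙 A)⁻¹ L) = pl x⁻¹ L := by
    intro x
    rw [← pl_comp, GrpObj.comp_inv, Category.comp_id]
  rw [lam, h, h, h, mul_comm_pts a b, mul_inv_rev]
  exact lam_inv_inv L a b

section Seesaw

variable (A)

omit [IsProper A.hom] [GeometricallyIntegral A.hom] in
/-- the fibre of the first projection over a point, after a field extension, through a point `w` with `w ≫ φ = z` -/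
theorem exists_fibre_ext (φ : A ⟶ A) (w z : A.left) (hwz : φ.left w = z) (c : Pic (A ⊗ A).left)
    (hc : pl (lift (fst A A ≫ φ) (snd A A)) c = 1) :
    ∃ (k' : Type u) (_ : Field k') (_ : Algebra (A.left.residueField z) k') (X' : Scheme.{u})
      (g : X' ⟶ (fst A A).left.fiber z) (q : X' ⟶ Spec (CommRingCat.of k')),
      IsPullback g q ((fst A A).left.fiberToSpecResidueField z)
        (Spec.map (CommRingCat.ofHom (algebraMap (A.left.residueField z) k'))) ∧
      pull g (pull ((fst A A).left.fiberι z) c) = 1 := by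
  subst hwz
  let r : A.left.residueField (φ.left w) ⟶ A.left.residueField w := φ.left.residueFieldMap w
  have hr : Spec.map r ≫ A.left.fromSpecResidueField (φ.left w) = A.left.fromSpecResidueField w ≫ φ.left :=
    Scheme.Hom.SpecMap_residueFieldMap_fromSpecResidueField φ.left w
  let F := (fst A A).left.fiber (φ.left w)
  let X' := pullback ((fst A A).left.fiberToSpecResidueField (φ.left w)) (Spec.map r)
  let g : X' ⟶ F := pullback.fst _ _
  let q : X' ⟶ Spec (A.left.residueField w) := pullback.snd _ _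
  refine ⟨A.left.residueField w, inferInstance, r.hom.toAlgebra, X', g, q, IsPullback.of_hasPullback _ _, ?_⟩
  let jF := (fst A A).left.fiberι (φ.left w)
  -- `X'` as an object over `Spec K`
  let XO : Over (Spec (CommRingCat.of K)) := Over.mk ((g ≫ jF) ≫ (A ⊗ A).hom)
  let gI : XO ⟶ A ⊗ A := Over.homMk (g ≫ jF) rfl
  have hq : q ≫ A.left.fromSpecResidueField w ≫ A.hom = (g ≫ jF) ≫ (A ⊗ A).hom := by
    have h1 : jF ≫ (fst A A).left = (fst A A).left.fiberToSpecResidueField (φ.left w) ≫
      A.left.fromSpecResidueField (φ.left w) := pullback.condition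
    have h2 : g ≫ (fst A A).left.fiberToSpecResidueField (φ.left w) = q ≫ Spec.map r := pullback.condition
    have h3 : (A ⊗ A).hom = (fst A A).left ≫ A.hom := (Over.w (fst A A)).symm
    rw [h3, Category.assoc, reassoc_of% h1, reassoc_of% h2, reassoc_of% hr, Over.w φ]
  let wO : XO ⟶ A := Over.homMk (q ≫ A.left.fromSpecResidueField w) (by
    rw [Category.assoc]; exact hq)
  let t : XO ⟶ A ⊗ A := lift wO (gI ≫ snd A A)
  have ht : t ≫ lift (fst A A ≫ φ) (snd A A) = gI := by
    ext1
    · rw [Category.assoc, lift_fst, lift_fst_assoc]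
      ext1
      have h1 : jF ≫ (fst A A).left = (fst A A).left.fiberToSpecResidueField (φ.left w) ≫
        A.left.fromSpecResidueField (φ.left w) := pullback.condition
      have h2 : g ≫ (fst A A).left.fiberToSpecResidueField (φ.left w) = q ≫ Spec.map r := pullback.condition
      change (q ≫ A.left.fromSpecResidueField w) ≫ φ.left = (g ≫ jF) ≫ (fst A A).left
      rw [Category.assoc, Category.assoc, h1, reassoc_of% h2, hr]
    · rw [Category.assoc, lift_snd, lift_snd]
  have h4 : pull (g ≫ jF) c = 1 := by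
    have h5 : pl gI c = 1 := by
      rw [← ht, pl_comp, hc, map_one]
    exact h5
  rw [← pull_comp]
  exact h4

/-- A class on `A × A` which is trivial on `A × {1}` and whose pull back along `φ × 1`, `φ` surjective, is trivial, is
trivial. -/
theorem eq_one_of_surjective (φ : A ⟶ A) [Surjective φ.left] (c : Pic (A ⊗ A).left)
    (h1 : pl (lift (𝟙 A) (1 : A ⟶ A)) c = 1) (hc : pl (lift (fst A A ≫ φ) (snd A A)) c = 1) : c = 1 := by
  have hfst : (fst A A).left = pullback.fst A.hom A.hom := rfl
  have i1 : Flat (fst A A).left := by rw [hfst]; infer_instance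
  have i2 : IsProper (fst A A).left := by rw [hfst]; infer_instance
  have i3 : LocallyOfFinitePresentation (fst A A).left := by rw [hfst]; infer_instance
  have i4 : GeometricallyIntegral (fst A A).left := by rw [hfst]; infer_instance
  have i5 : IsIntegral A.left :=
    GeometricallyIntegral.geometrically_isIntegral (f := A.hom) (𝟙 (Spec (CommRingCat.of K))) (𝟙 _) A.hom
      (IsPullback.of_horiz_isIso ⟨by simp⟩)
  obtain ⟨d, hd⟩ := K521.SeesawRed.exists_pull (fst A A).left c Set.univ dense_univ (by
    intro z _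
    obtain ⟨w, hw⟩ := φ.left.surjective z
    obtain ⟨k', _, _, X', g, q, hpb, hg⟩ := exists_fibre_ext A φ w z hw c hc
    have j1 : IsProper ((fst A A).left.fiberToSpecResidueField z) := by
      change IsProper (pullback.snd _ _)
      infer_instance
    have j2 : GeometricallyIntegral ((fst A A).left.fiberToSpecResidueField z) := by
      change GeometricallyIntegral (pullback.snd _ _)
      infer_instance
    exact K521.SeesawRed.eq_one_of_field_ext (A.left.residueField z) _
      ((fst A A).left.fiberToSpecResidueField z) k' X' g q hpb _ hg)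
  have h2 : d = 1 := by
    have h3 : pl (lift (𝟙 A) (1 : A ⟶ A)) (pl (fst A A) d) = 1 := by
      rw [show pl (fst A A) d = c from hd, h1]
    rw [← pl_comp, lift_fst] at h3
    have h4 : pl (𝟙 A) d = d := pull_id d
    rwa [h4] at h3
  rw [← hd, h2, map_one]

variable {A}

/-- If the Mumford class becomes trivial after `[n] × 1`, it is trivial. -/
theorem lam_eq_one_of_pow_left (L : Pic A.left) (n : ℕ) (hn : 1 ≤ n)
    (h : lam L (fst A A ^ n) (snd A A) = 1) : lam L (fst A A) (snd A A) = 1 := by
  have := (Grpsch.MulFinFlat.isFinite_flat_surjective K A n hn).2.2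
  refine eq_one_of_surjective A (𝟙 A ^ n) _ ?_ ?_
  · rw [lam_comp, lift_fst, lift_snd, lam_one_right]
  · rw [lam_comp, lift_fst, lift_snd, MonObj.comp_pow, Category.comp_id, h]

/-- The Mumford classes have no torsion. -/
theorem lam_eq_one_of_pow (L : Pic A.left) (n : ℕ) (hn : 1 ≤ n)
    (h : lam L (fst A A) (snd A A) ^ n = 1) : lam L (fst A A) (snd A A) = 1 :=
  lam_eq_one_of_pow_left L n hn (by rw [lam_pow_left, h])

end Seesaw

end K521.Lam
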