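import Groth.Agent.AbVar.K521.RedPow
import Groth.Agent.Sga3.H780.AlmostCompl
import Groth.Agent.Sga3B.RedIdComp
import Groth.Agent.Sga3.H780.PointedProd
import Groth.Agent.Grpsch.MulFinFlat
import Groth.Agent.S0353
import Groth.Agent.Etcore.SmoothRed
import Groth.Agent.Sga3.H780.Pointed
import Mathlib.AlgebraicGeometry.Group.Abelian
import Mathlib.AlgebraicGeometry.Group.Smooth

/-!
# Connected closed subgroups of abelian varieties over an algebraically closed field

`exists_factor`: for a connected closed subgroup `Y` of an abelian variety `X` over an algebraically closed field there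
are the reduced subgroup `u : U ⟶ Y` and `N > 0` such that `[N] : Y ⟶ Y` is `Y ⟶ U ⟶ Y` with `Y ⟶ U` surjective.
-/

set_option autoImplicit false
universe u

open CategoryTheory Limits AlgebraicGeometry MonoidalCategory CartesianMonoidalCategory
open scoped MonObj

namespace K521.RedAv

variable {K : Type u} [Field K]

/-- A connected closed subgroup of an abelian variety: a surjective morphism to its reduction through `[N]`. -/
theorem exists_factor [IsAlgClosed K] (X Y : Over (Spec (CommRingCat.of K)))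
    [GrpObj X] [IsProper X.hom] [GeometricallyIntegral X.hom] [GrpObj Y] (i : Y ⟶ X) [IsMonHom i]
    [IsClosedImmersion i.left] [ConnectedSpace Y.left] :
    ∃ (U : Over (Spec (CommRingCat.of K))) (_ : GrpObj U) (u : U ⟶ Y) (Φ : Y ⟶ U) (N : ℕ), 0 < N ∧
      IsMonHom u ∧ IsClosedImmersion u.left ∧ Smooth U.hom ∧ IsIntegral U.left ∧ Surjective u.left ∧
      Φ ≫ u = (𝟙 Y) ^ N ∧ Surjective Φ.left := by
  have hYlft : LocallyOfFiniteType Y.hom := by
    rw [← Over.w i]
    infer_instance
  have hYqc : QuasiCompact Y.hom := by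
    rw [← Over.w i]
    infer_instance
  have hYN : IsLocallyNoetherian Y.left := LocallyOfFiniteType.isLocallyNoetherian Y.hom
  have hYc : CompactSpace Y.left := QuasiCompact.compactSpace_of_compactSpace Y.hom
  have hXi : IsIntegral X.left := GeometricallyIntegral.isIntegral_of_subsingleton X.hom
  have hXs : Smooth X.hom := by
    have : GrpObj (Over.mk X.hom) := ‹GrpObj X›
    exact smooth_of_grpObj X.hom
  have hXc : IsCommMonObj X := isCommMonObj_of_isProper_of_geometricallyIntegral X
  obtain ⟨U, iU, u, hu, hucl, hUs, hUc, hur⟩ := Groth.Agent.Sga3B.RedIdComp.exists_redIdComp Y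
  have hus : Surjective u.left := ⟨fun y => by
    have h1 : y ∈ Set.range u.left := by
      rw [hur, PreconnectedSpace.connectedComponent_eq_univ]
      trivial
    exact h1⟩
  have ha : IsMonHom (u ≫ i) := inferInstance
  have hacl : IsClosedImmersion (u ≫ i).left := by
    rw [Over.comp_left]
    infer_instance
  have hUp : IsProper U.hom := by
    rw [← Over.w (u ≫ i)]
    infer_instance
  have hUi : IsIntegral U.left := Groth.Agent.Sga3.H780.Pointed.isIntegral U
  have hUg : GeometricallyIntegral U.hom := Groth.Agent.Sga3.H780.PointedProd.geometricallyIntegral U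
  obtain ⟨φ, n, hφ, hn, hφn⟩ := Groth.Agent.Sga3.H780.AlmostCompl.exists_almost_complement X U (u ≫ i)
    (fun T g x => mul_comm _ _)
  have hUcomm : IsCommMonObj U := isCommMonObj_of_isProper_of_geometricallyIntegral U
  let ψ : Y ⟶ X := (i ≫ φ ≫ u ≫ i)⁻¹ * i ^ n
  have hψ : u ≫ ψ = 1 := by
    change u ≫ ((i ≫ φ ≫ u ≫ i)⁻¹ * i ^ n) = 1
    rw [MonObj.comp_mul, GrpObj.comp_inv, MonObj.comp_pow]
    have h1 : u ≫ i ≫ φ ≫ u ≫ i = (u ≫ i) ^ n := by
      rw [← Category.assoc, ← Category.assoc, hφn, MonObj.pow_comp]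
      simp
    rw [h1, inv_mul_cancel]
  obtain ⟨M, hM, hψM⟩ : ∃ M : ℕ, 0 < M ∧ ψ ^ M = 1 := by
    obtain ⟨p, hp⟩ := CharP.exists K
    rcases CharP.char_is_prime_or_zero K p with h | h
    · obtain ⟨j, hj⟩ := K521.RedPow.exists_pow_eq_one U Y X u ψ hψ p (CharP.cast_eq_zero K p)
      exact ⟨p ^ j, pow_pos h.pos j, hj⟩
    · subst h
      have : CharZero K := CharP.charP_to_charZero K
      have hYs : Smooth Y.hom := Groth.Agent.S0353.result K Y
      have hYr : IsReduced Y.left := Groth.Agent.Etcore.SmoothRed.isReduced_of_smooth Y.hom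
      have : IsIso u.left := isIso_of_isClosedImmersion_of_surjective u.left
      have hui : IsIso u := by
        have : IsIso ((Over.forget _).map u) := this
        exact isIso_of_reflects_iso u (Over.forget _)
      refine ⟨1, one_pos, ?_⟩
      rw [pow_one, ← cancel_epi u, hψ, MonObj.comp_one]
  have hMi : ((i ≫ φ) ^ M) ≫ u = (𝟙 Y) ^ (n * M) := by
    have hmi : Mono i := Over.mono_of_mono_left i
    rw [← cancel_mono i, Category.assoc]
    have h1 : ((i ≫ φ ≫ u ≫ i)⁻¹ * i ^ n) ^ M = 1 := hψM
    rw [mul_pow, inv_pow, inv_mul_eq_one] at h1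
    rw [MonObj.pow_comp, MonObj.pow_comp, Category.id_comp, pow_mul, ← h1, Category.assoc]
  refine ⟨U, iU, u, (i ≫ φ) ^ M, n * M, Nat.mul_pos hn hM, hu, hucl, hUs, hUi, hus, hMi, ?_⟩
  have h2 : u ≫ ((i ≫ φ) ^ M) = (𝟙 U) ^ (n * M) := by
    rw [MonObj.comp_pow, ← Category.assoc, hφn, pow_mul]
  have h3 : Surjective (((𝟙 U) ^ (n * M) : U ⟶ U)).left :=
    (Groth.Agent.Grpsch.MulFinFlat.isFinite_flat_surjective K U (n * M) (Nat.mul_pos hn hM)).2.2
  rw [← h2, Over.comp_left] at h3
  exact Surjective.of_comp u.left _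

end K521.RedAv
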