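import Groth.Agent.AbVar.K521.RedAv
import Groth.Agent.FBase.K106.GeomDesc
import Groth.Agent.Sga3C.SubGrp
import Groth.Agent.Grpsch.AbBC
import Groth.Agent.AlgSp.K597.FlatKer
import Groth.Agent.S3023

/-!
# The reduction of a connected closed subgroup of an abelian variety

`geomInt`: for a connected closed subgroup `Y` of an abelian variety over a field, the reduction of `Y` is
geometrically integral.
-/

set_option autoImplicit false
universe u

open CategoryTheory Limits AlgebraicGeometry MonoidalCategory CartesianMonoidalCategory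
open scoped MonObj Obj

namespace K521.RedDesc

/-- Reduced schemes map into surjective closed subschemes. -/
theorem exists_lift {Z Y T : Scheme.{u}} (j : Z ⟶ Y) [IsClosedImmersion j] [Surjective j] [IsReduced T] (t : T ⟶ Y) :
    ∃ s : T ⟶ Z, s ≫ j = t := by
  have : IsIso (pullback.fst t j) := isIso_of_isClosedImmersion_of_surjective _
  refine ⟨inv (pullback.fst t j) ≫ pullback.snd t j, ?_⟩
  rw [Category.assoc, ← pullback.condition, IsIso.inv_hom_id_assoc]

/-- If `a` is scheme-theoretically dominant and `a ≫ w` factors through a closed immersion, so does `w`. -/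
theorem exists_lift_of_dominant {A W U Y : Scheme.{u}} (a : A ⟶ W) [IsSchemeTheoreticallyDominant a] (w : W ⟶ Y)
    (c : U ⟶ Y) [IsClosedImmersion c] (φ : A ⟶ U) (h : a ≫ w = φ ≫ c) : ∃ r : W ⟶ U, r ≫ c = w := by
  have h1 : IsIso (pullback.fst w c) := by
    have h2 : (pullback.fst w c).ker = ⊥ := by
      have h3 : pullback.lift a φ h ≫ pullback.fst w c = a := pullback.lift_fst _ _ _
      have h4 : (pullback.fst w c).ker ≤ (pullback.lift a φ h ≫ pullback.fst w c).ker :=
        Scheme.Hom.le_ker_comp _ _
      rw [h3, IsSchemeTheoreticallyDominant.ker_eq_bot (f := a)] at h4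
      exact le_bot_iff.mp h4
    exact IsClosedImmersion.isIso_iff_ker_eq_bot.mpr h2
  refine ⟨inv (pullback.fst w c) ≫ pullback.snd w c, ?_⟩
  rw [Category.assoc, ← pullback.condition, IsIso.inv_hom_id_assoc]

variable (k : Type u) [Field k]

theorem geomInt (X : Over (Spec (CommRingCat.of k))) [GrpObj X] [IsProper X.hom] [GeometricallyIntegral X.hom]
    (Y : Over (Spec (CommRingCat.of k))) [GrpObj Y] (i : Y ⟶ X) [IsMonHom i] [IsClosedImmersion i.left]
    [ConnectedSpace ↥Y.left] (Yr : Scheme.{u}) (j : Yr ⟶ Y.left) [IsClosedImmersion j] [Surjective j]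
    [IsReduced Yr] : GeometricallyIntegral (j ≫ Y.hom) := by
  let K := AlgebraicClosure k
  let b : Spec (CommRingCat.of K) ⟶ Spec (CommRingCat.of k) := Spec.map (CommRingCat.ofHom (algebraMap k K))
  let XK := (Over.pullback b).obj X
  let YK := (Over.pullback b).obj Y
  let iK : YK ⟶ XK := (Over.pullback b).map i
  have hXK1 : IsProper XK.hom := inferInstanceAs (IsProper (pullback.snd X.hom b))
  have hXK2 : GeometricallyIntegral XK.hom := inferInstanceAs (GeometricallyIntegral (pullback.snd X.hom b))
  have hiK : IsClosedImmersion iK.left :=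
    MorphismProperty.of_isPullback (Groth.Agent.Grpsch.AbBC.isPullback_pullback_map b i).flip inferInstance
  have hYc : GeometricallyConnected Y.hom :=
    Groth.Agent.S3023.geometricallyConnected_of_point Y.hom η[Y].left (Over.w η[Y])
  have hYKc : ConnectedSpace YK.left := by
    have h1 : GeometricallyConnected YK.hom := inferInstanceAs (GeometricallyConnected (pullback.snd Y.hom b))
    have : Subsingleton (Spec (CommRingCat.of K)) := inferInstanceAs (Subsingleton (PrimeSpectrum K))
    exact GeometricallyConnected.connectedSpace_of_subsingleton YK.hom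
  have hmon : IsMonHom iK := inferInstance
  obtain ⟨U, iU, u, Φ, N, hN, hu, hucl, hUs, hUi, hus, hΦ, hΦs⟩ := K521.RedAv.exists_factor XK YK iK
  let f : Y.left ⟶ Y.left := ((𝟙 Y) ^ N : Y ⟶ Y).left
  have hYp : IsProper Y.hom := by
    rw [← Over.w i]
    infer_instance
  have hfqc : QuasiCompact f := by
    have h1 : IsProper (f ≫ Y.hom) := by
      rw [Over.w]
      infer_instance
    have h2 : IsProper f := IsProper.of_comp f Y.hom
    infer_instance
  let z : f.image ⟶ Y.left := f.imageι
  let g : YK.left ⟶ Y.left := pullback.fst Y.hom b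
  have hbf : Flat b := inferInstance
  have hbs : Surjective b := inferInstance
  have hg : Flat g := inferInstanceAs (Flat (pullback.fst Y.hom b))
  have hgs : Surjective g := inferInstanceAs (Surjective (pullback.fst Y.hom b))
  have H : IsPullback ((Over.pullback b).map ((𝟙 Y) ^ N : Y ⟶ Y)).left g g f :=
    Groth.Agent.Grpsch.AbBC.isPullback_pullback_map b _
  have hpow : ((Over.pullback b).map ((𝟙 Y) ^ N : Y ⟶ Y)) = (𝟙 YK) ^ N := by
    have := Groth.Agent.Grpsch.AbBC.map_zpow_one b Y (N : ℤ)
    rwa [zpow_natCast, zpow_natCast] at this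
  rw [hpow, ← hΦ, Over.comp_left] at H
  -- the base change of the image
  have s1 : IsPullback (pullback.fst z g) (pullback.snd z g) z g := IsPullback.of_hasPullback _ _
  have w : (g ≫ f.toImage) ≫ z = (Φ.left ≫ u.left) ≫ g := by
    rw [Category.assoc, Scheme.Hom.toImage_imageι, ← H.w]
  let a : YK.left ⟶ pullback z g := pullback.lift (g ≫ f.toImage) (Φ.left ≫ u.left) w
  have ha1 : a ≫ pullback.fst z g = g ≫ f.toImage := pullback.lift_fst _ _ _
  have ha2 : a ≫ pullback.snd z g = Φ.left ≫ u.left := pullback.lift_snd _ _ _
  have s2 : IsPullback g a f.toImage (pullback.fst z g) := by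
    refine IsPullback.of_bot ?_ ha1.symm s1
    rw [ha2, Scheme.Hom.toImage_imageι]
    exact H.flip
  have hfl : Flat (pullback.fst z g) := inferInstance
  have := K597.FlatKer.isSchDom_toImage f
  have hd : IsSchemeTheoreticallyDominant a := IsSchemeTheoreticallyDominant.of_isPullback s2
  obtain ⟨r, hr⟩ := exists_lift_of_dominant a (pullback.snd z g) u.left Φ.left ha2
  have hrcl : IsClosedImmersion r := by
    have h1 : IsClosedImmersion (r ≫ u.left) := by
      rw [hr]
      infer_instance
    exact IsClosedImmersion.of_comp r u.left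
  have hrs : Surjective r := by
    have h1 : a ≫ r = Φ.left := by
      rw [← cancel_mono u.left, Category.assoc, hr, ha2]
    have h2 : Surjective (a ≫ r) := by
      rw [h1]
      infer_instance
    exact Surjective.of_comp a r
  have hri : IsIso r := isIso_of_isClosedImmersion_of_surjective r
  have hUg : GeometricallyIntegral U.hom := Groth.Agent.Sga3.H780.PointedProd.geometricallyIntegral U
  have hZg : GeometricallyIntegral (z ≫ Y.hom) := by
    have h1 : IsPullback (pullback.fst z g) (pullback.snd z g ≫ pullback.snd Y.hom b) (z ≫ Y.hom) b :=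
      s1.paste_vert (IsPullback.of_hasPullback Y.hom b)
    have h2 : GeometricallyIntegral (pullback.snd z g ≫ pullback.snd Y.hom b) := by
      have h3 : pullback.snd z g ≫ pullback.snd Y.hom b = r ≫ U.hom := by
        rw [← hr, Category.assoc]
        congr 1
        exact Over.w u
      rw [h3]
      exact (MorphismProperty.cancel_left_of_respectsIso @GeometricallyIntegral r U.hom).mpr hUg
    have h4 : GeometricallyIntegral (pullback.snd (z ≫ Y.hom) b) := by
      have h5 : h1.isoPullback.inv ≫ (pullback.snd z g ≫ pullback.snd Y.hom b) = pullback.snd (z ≫ Y.hom) b :=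
        h1.isoPullback_inv_snd
      rw [← h5]
      exact (MorphismProperty.cancel_left_of_respectsIso @GeometricallyIntegral _ _).mpr h2
    exact K106.GeomDesc.geometricallyIntegral_of_pullback_snd (z ≫ Y.hom) K
  have hZs : Surjective z := by
    have h1 : Surjective (pullback.snd z g) := by
      rw [← hr]
      infer_instance
    have h2 : Surjective (pullback.fst z g ≫ z) := by
      rw [pullback.condition]
      infer_instance
    exact Surjective.of_comp (pullback.fst z g) z
  have hZi : IsIntegral f.image := GeometricallyIntegral.isIntegral_of_subsingleton (z ≫ Y.hom)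
  obtain ⟨s, hs⟩ := exists_lift z j
  have hscl : IsClosedImmersion s := by
    have h1 : IsClosedImmersion (s ≫ z) := by
      rw [hs]
      infer_instance
    exact IsClosedImmersion.of_comp s z
  have hss : Surjective s := by
    have h1 : Function.Injective z := z.injective
    refine ⟨fun y => ?_⟩
    obtain ⟨x, hx⟩ := j.surjective (z y)
    refine ⟨x, h1 ?_⟩
    rw [← hs] at hx
    exact hx
  have hsi : IsIso s := isIso_of_isClosedImmersion_of_surjective s
  rw [← hs, Category.assoc]
  exact (MorphismProperty.cancel_left_of_respectsIso @GeometricallyIntegral s _).mpr hZg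

/-- The reduction is a subgroup. -/
theorem exists_grp (Y : Over (Spec (CommRingCat.of k))) [GrpObj Y] [LocallyOfFiniteType Y.hom] (Yr : Scheme.{u})
    (j : Yr ⟶ Y.left) [IsClosedImmersion j] [Surjective j] [GeometricallyIntegral (j ≫ Y.hom)] :
    ∃ _ : GrpObj (Over.mk (j ≫ Y.hom)), IsMonHom (Over.homMk j rfl : Over.mk (j ≫ Y.hom) ⟶ Y) := by
  let Z : Over (Spec (CommRingCat.of k)) := Over.mk (j ≫ Y.hom)
  let c : Z ⟶ Y := Over.homMk j rfl
  have hc : IsClosedImmersion c.left := inferInstanceAs (IsClosedImmersion j)
  have hcs : Surjective c.left := inferInstanceAs (Surjective j)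
  have hZ : GeometricallyIntegral Z.hom := inferInstanceAs (GeometricallyIntegral (j ≫ Y.hom))
  have hZl : LocallyOfFiniteType Z.hom := inferInstanceAs (LocallyOfFiniteType (j ≫ Y.hom))
  have hZi : IsIntegral Z.left := GeometricallyIntegral.isIntegral_of_subsingleton Z.hom
  have hZZ : IsReduced (Z ⊗ Z).left := by
    have h1 : IsLocallyNoetherian Z.left := LocallyOfFiniteType.isLocallyNoetherian Z.hom
    have h2 : IsIntegral (pullback Z.hom Z.hom) := inferInstance
    exact inferInstanceAs (IsReduced (pullback Z.hom Z.hom))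
  have hmono : Mono c := Over.mono_of_mono_left c
  have key : ∀ (T : Over (Spec (CommRingCat.of k))) (_ : IsReduced T.left) (t : T ⟶ Y), ∃ s : T ⟶ Z, s ≫ c = t := by
    intro T _ t
    obtain ⟨s, hs⟩ := exists_lift c.left t.left
    refine ⟨Over.homMk s ?_, ?_⟩
    · rw [← Over.w c, ← Category.assoc, hs, Over.w]
    · ext1
      exact hs
  refine Groth.Agent.Sga3C.SubGrp.exists_grpObj_of_mono c (key _ hZZ _) (key _ ?_ _) (key _ ?_ _)
  · exact inferInstanceAs (IsReduced (Spec (CommRingCat.of k)))
  · infer_instance

end K521.RedDesc
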