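import Groth.Agent.AbVar.K521.Infin
import Groth.Agent.Divis.RegStalk
import Mathlib.AlgebraicGeometry.SpreadingOut

/-!
# A morphism to a group scheme, trivial on the reduction, is killed by a power of the characteristic

`exists_pow_eq_one`: `Y` Noetherian over a field in which `n = 0`, `u : U ⟶ Y` a surjective closed immersion, `G` a
group scheme, `ψ : Y ⟶ G` with `u ≫ ψ = 1`; then `ψ ^ (n ^ j) = 1` for some `j`.
-/

set_option autoImplicit false
universe u

open CategoryTheory Limits AlgebraicGeometry MonoidalCategory CartesianMonoidalCategory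
open scoped MonObj
open Groth.Agent.Grpsch.AbTangent K521.Infin

namespace K521.RedPow

variable {K : Type u} [Field K]

/-- The ideal of a surjective closed immersion is nilpotent in a Noetherian local ring. -/
theorem exists_ker_pow_eq_bot {U Y : Scheme.{u}} [IsLocallyNoetherian Y] (u : U ⟶ Y) [IsClosedImmersion u]
    [Surjective u] (x : U) : ∃ j : ℕ, (RingHom.ker (u.stalkMap x).hom) ^ (j + 1) = ⊥ := by
  obtain ⟨V, hV, hxV, -⟩ := exists_isAffineOpen_mem_and_subset (x := u x) (U := ⊤) trivial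
  have h1 := Groth.Agent.Divis.RegStalk.ker_stalkMap u x ⟨V, hV⟩ hxV
  have h2 : RingHom.ker (u.stalkMap x).hom ≤ nilradical (Y.presheaf.stalk (u x)) := by
    rw [h1, Ideal.map_le_iff_le_comap]
    intro s hs
    rw [Scheme.Hom.ker_apply] at hs
    have h3 : Y.basicOpen s = ⊥ := by
      rw [eq_bot_iff]
      intro y hy
      obtain ⟨z, rfl⟩ := u.surjective y
      have h4 : z ∈ u ⁻¹ᵁ (Y.basicOpen s) := hy
      rw [Scheme.preimage_basicOpen] at h4
      have h5 : u.app V s = 0 := hs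
      rw [h5, Scheme.basicOpen_zero] at h4
      exact h4.elim
    have h6 : IsNilpotent s := (Scheme.isNilpotent_iff_basicOpen_eq_bot_of_isCompact hV.isCompact s).mpr h3
    rw [Ideal.mem_comap, mem_nilradical]
    exact h6.map _
  have hN : IsNoetherianRing (Y.presheaf.stalk (u x)) := inferInstance
  have h3 : IsNilpotent (nilradical (Y.presheaf.stalk (u x))) := IsNoetherianRing.isNilpotent_nilradical _
  obtain ⟨m, hm⟩ := h3
  refine ⟨m, ?_⟩
  rw [eq_bot_iff]
  refine (Ideal.pow_right_mono h2 _).trans ?_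
  rw [pow_succ, hm, zero_mul]
  exact le_rfl

theorem local_pow (U Y G : Over (Spec (CommRingCat.of K))) [GrpObj G] [IsLocallyNoetherian Y.left] (u : U ⟶ Y)
    [IsClosedImmersion u.left] [Surjective u.left] (ψ : Y ⟶ G) (h : u ≫ ψ = 1) (n : ℕ) (hn : (n : K) = 0)
    (y : Y.left) : ∃ (j : ℕ) (V : Y.left.Opens), y ∈ V ∧
      (Over.homMk V.ι rfl : Over.mk (V.ι ≫ Y.hom) ⟶ Y) ≫ ψ ^ (n ^ j) = 1 := by
  obtain ⟨x, rfl⟩ := u.left.surjective y
  obtain ⟨j, hj⟩ := exists_ker_pow_eq_bot u.left x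
  let O : Type u := Y.left.presheaf.stalk (u.left x)
  obtain ⟨κ, hκ⟩ : ∃ κ : CommRingCat.of K ⟶ Y.left.presheaf.stalk (u.left x),
      Spec.map κ = Y.left.fromSpecStalk (u.left x) ≫ Y.hom := ⟨Spec.preimage _, Spec.map_preimage _⟩
  let _ : Algebra K O := κ.hom.toAlgebra
  let s : Y.left.presheaf.stalk (u.left x) ⟶ U.left.presheaf.stalk x := u.left.stalkMap x
  let J : Ideal O := RingHom.ker s.hom
  have hJ : J ≠ ⊤ := RingHom.ker_ne_top _
  have hsurj : Function.Surjective s.hom := u.left.stalkMap_surjective x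
  let fs : sp (K := K) O ⟶ Y := Over.homMk (Y.left.fromSpecStalk (u.left x)) hκ.symm
  let e : O ⧸ J ≃+* U.left.presheaf.stalk x := RingHom.quotientKerEquivOfSurjective hsurj
  let θ : U.left.presheaf.stalk x ⟶ CommRingCat.of (O ⧸ J) := CommRingCat.ofHom e.symm.toRingHom
  have hθ : s ≫ θ = CommRingCat.ofHom (Ideal.Quotient.mk J) := by
    refine CommRingCat.hom_ext (RingHom.ext fun a => ?_)
    change e.symm (s.hom a) = Ideal.Quotient.mk J a
    rw [RingEquiv.symm_apply_eq]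
    rfl
  have hcomp : (Spec.map θ ≫ U.left.fromSpecStalk x) ≫ u.left =
      Spec.map (CommRingCat.ofHom (Ideal.Quotient.mk J)) ≫ Y.left.fromSpecStalk (u.left x) := by
    rw [Category.assoc, ← Scheme.SpecMap_stalkMap_fromSpecStalk, ← hθ, Spec.map_comp, Category.assoc]
  let t : sp (K := K) (O ⧸ J) ⟶ U := Over.homMk (Spec.map θ ≫ U.left.fromSpecStalk x) (by
    rw [← Over.w u, ← Category.assoc, hcomp, Category.assoc]
    change _ = Spec.map (CommRingCat.ofHom (algebraMap K (O ⧸ J)))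
    rw [← hκ, ← Spec.map_comp]
    rfl)
  have ht : t ≫ u = spMap (Ideal.Quotient.mkₐ K J) ≫ fs := by
    ext1
    exact hcomp
  have h1 : spMap (Ideal.Quotient.mkₐ K J) ≫ (fs ≫ ψ) = 1 := by
    rw [← Category.assoc, ← ht, Category.assoc, h, MonObj.comp_one]
  have h2 := K521.Infin.pow_eq_one n hn j J hj hJ (fs ≫ ψ) h1
  rw [← MonObj.comp_pow] at h2
  have h3 : Y.left.fromSpecStalk (u.left x) ≫ (ψ ^ (n ^ j)).left =
      Y.left.fromSpecStalk (u.left x) ≫ (1 : Y ⟶ G).left := by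
    have h4 : fs ≫ ψ ^ (n ^ j) = fs ≫ (1 : Y ⟶ G) := by rw [h2, MonObj.comp_one]
    exact congrArg (fun z => z.left) h4
  obtain ⟨V, hV, h5⟩ := spread_out_unique_of_isGermInjective' _ _ h3
  refine ⟨j, V, hV, ?_⟩
  have h6 : (Over.homMk V.ι rfl : Over.mk (V.ι ≫ Y.hom) ⟶ Y) ≫ ψ ^ (n ^ j) =
      (Over.homMk V.ι rfl : Over.mk (V.ι ≫ Y.hom) ⟶ Y) ≫ (1 : Y ⟶ G) := by
    ext1
    exact h5
  rw [h6, MonObj.comp_one]

theorem exists_pow_eq_one (U Y G : Over (Spec (CommRingCat.of K))) [GrpObj G] [IsLocallyNoetherian Y.left]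
    [CompactSpace Y.left] (u : U ⟶ Y) [IsClosedImmersion u.left] [Surjective u.left] (ψ : Y ⟶ G) (h : u ≫ ψ = 1)
    (n : ℕ) (hn : (n : K) = 0) : ∃ j : ℕ, ψ ^ (n ^ j) = 1 := by
  choose j V hV hj using local_pow U Y G u ψ h n hn
  obtain ⟨t, ht⟩ := CompactSpace.isCompact_univ (X := Y.left).elim_finite_subcover (fun y => (V y : Set Y.left))
    (fun y => (V y).2) (fun y _ => Set.mem_iUnion.mpr ⟨y, hV y⟩)
  let m : ℕ := t.sup j
  refine ⟨m, ?_⟩
  have h1 : ∀ y ∈ t, (V y).ι ≫ (ψ ^ (n ^ m)).left = (V y).ι ≫ (1 : Y ⟶ G).left := by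
    intro y hy
    have h2 : j y ≤ m := Finset.le_sup hy
    obtain ⟨d, hd⟩ := Nat.exists_eq_add_of_le h2
    have h3 : (Over.homMk (V y).ι rfl : Over.mk ((V y).ι ≫ Y.hom) ⟶ Y) ≫ ψ ^ (n ^ m) =
        (Over.homMk (V y).ι rfl : Over.mk ((V y).ι ≫ Y.hom) ⟶ Y) ≫ (1 : Y ⟶ G) := by
      rw [MonObj.comp_one, hd, pow_add, pow_mul, MonObj.comp_pow, hj y, one_pow]
    exact congrArg (fun z => z.left) h3
  ext1
  have h4 : (⨆ y : t, V y.1) = ⊤ := by
    rw [eq_top_iff]
    intro z _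
    obtain ⟨y, hy, hz⟩ := Set.mem_iUnion₂.mp (ht (Set.mem_univ z))
    exact TopologicalSpace.Opens.mem_iSup.mpr ⟨⟨y, hy⟩, hz⟩
  refine (Y.left.openCoverOfIsOpenCover (fun y : t => V y.1) h4).hom_ext _ _ fun y => ?_
  exact h1 y.1 y.2

end K521.RedPow
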